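import Cfsg.Agent.Chev.G2Spec.Bound
import Cfsg.Agent.Chev.EllipticData
import Cfsg.Agent.Chev.ToralChev
import Mathlib.GroupTheory.OrderOfElement

/-!
Elements of `G₂(q)` of the maximal orders.
-/

set_option autoImplicit false
set_option linter.style.haveILetI false

namespace CfsgLib.Chev.G2Spec

open Cfsg.Lie Matrix Polynomial

/-- The rank is not zero. -/
local instance neZeroRankA : NeZero chevG2.rank := ⟨by decide⟩

theorem mem_range_of_dvd {G : Type*} [Group G] [Finite G] {g : G} {k : ℕ} (h : k ∣ orderOf g) :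
    k ∈ Set.range (orderOf : G → ℕ) :=
  ⟨g ^ (orderOf g / k), orderOf_pow_orderOf_div (orderOf_pos g).ne' h⟩

variable {F : Type*} [Field F] [Fintype F]

/-- A lift of the companion matrix of `X² - T X + N`. -/
def comp2 (T : F) (N : Fˣ) : chevG2.group F :=
  xe 7 (-1 : F) * xe 4 (1 : F) * xe 7 (T / N - 1) *
    te (fun i : Fin chevG2.rank => if i = 0 then 1 else N)

theorem rho_comp2 (T : F) (N : Fˣ) :
    (rho F (comp2 T N) : Matrix (Fin 7) (Fin 7) F) *ᵥ Pi.single 0 1 = Pi.single 1 1 ∧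
      (rho F (comp2 T N) : Matrix (Fin 7) (Fin 7) F) *ᵥ Pi.single 1 1 =
        -(N : F) • Pi.single 0 1 + T • Pi.single 1 1 := by
  set c : Fin chevG2.rank → Fˣ := fun i => if i = 0 then 1 else N
  have hw : ∀ b, ((wchar b c : Fˣ) : F) = ((c 0 ^ wexp 0 b * c 1 ^ wexp 1 b : Fˣ) : F) := fun b =>
    congrArg Units.val (Fin.prod_univ_two (fun i : Fin 2 => c i ^ wexp i b))
  have hci : c 0 = 1 ∧ c 1 = N := ⟨rfl, rfl⟩
  have hc0 : ((wchar 0 c : Fˣ) : F) = 1 := by
    rw [hw, hci.1, hci.2, show wexp 1 (0 : Fin 7) = 0 from rfl]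
    simp
  have hc1 : ((wchar 1 c : Fˣ) : F) = N := by
    rw [hw, hci.1, hci.2, show wexp 1 (1 : Fin 7) = 1 from rfl]
    simp
  simp only [comp2, map_mul, Units.val_mul, rho_x, coe_xg, ← mulVec_mulVec]
  rw [rho_te, rho_te, hc0, hc1, one_smul]
  have h70 : ∀ t : F, xm 7 t *ᵥ Pi.single 0 1 = Pi.single 0 1 := fun t => by
    funext i
    fin_cases i <;> simp [mulVec_single, xm, entR, ents]
  have h71 : ∀ t : F, xm 7 t *ᵥ Pi.single 1 1 = t • Pi.single 0 1 + Pi.single 1 1 := fun t => by
    funext i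
    fin_cases i <;> simp [mulVec_single, xm, entR, ents]
  have h40 : xm 4 (1 : F) *ᵥ Pi.single 0 1 = Pi.single 0 1 + Pi.single 1 1 := by
    funext i
    fin_cases i <;> simp [mulVec_single, xm, entR, ents]
  have h41 : xm 4 (1 : F) *ᵥ Pi.single 1 1 = Pi.single 1 1 := by
    funext i
    fin_cases i <;> simp [mulVec_single, xm, entR, ents]
  have hN := N.ne_zero
  simp only [mulVec_smul, mulVec_add, h70, h71, h40, h41]
  constructor
  · module
  · match_scalars
    all_goals field_simp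
    all_goals ring

theorem block_order {K : Type*} [Field K] [Fintype K] (f : F →+* K) {ω : K} {T : F} {N : Fˣ}
    (h : f N - f T * ω + ω ^ 2 = 0) : orderOf ω ∣ orderOf (comp2 T N) := by
  set g := comp2 T N
  obtain ⟨h0, h1⟩ := rho_comp2 T N
  set M : Matrix (Fin 7) (Fin 7) K := f.mapMatrix ((rho F g : GL (Fin 7) F) : Matrix (Fin 7) (Fin 7) F)
    with hM
  have hN : f (N : F) ≠ 0 := by simp
  set v : Fin 7 → K := fun i => if i = 0 then 1 else if i = 1 then -ω / f N else 0 with hv
  have hev : M *ᵥ v = ω • v := by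
    funext i
    have c0 := congrFun h0 i
    have c1 := congrFun h1 i
    simp only [mulVec_single, MulOpposite.op_one, one_smul, Matrix.col_apply] at c0 c1
    show ∑ j, M i j * v j = _
    rw [Fin.sum_univ_seven]
    have m0 : M i 0 = f (Pi.single (M := fun _ : Fin 7 => F) 1 1 i) := by
      rw [hM, RingHom.mapMatrix_apply, Matrix.map_apply, c0]
    have m1 : M i 1 = f ((-(N : F) • Pi.single 0 1 + T • Pi.single 1 1 : Fin 7 → F) i) := by
      rw [hM, RingHom.mapMatrix_apply, Matrix.map_apply, c1]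
    rw [m0, m1]
    fin_cases i <;> simp [hv]
    · field_simp
    · field_simp
      linear_combination h
  have hpow : ∀ k : ℕ, M ^ k *ᵥ v = ω ^ k • v := fun k => by
    induction k with
    | zero => simp
    | succ k ih => rw [pow_succ', ← mulVec_mulVec, ih, mulVec_smul, hev, smul_smul, pow_succ]
  have := congrFun (hpow (orderOf g)) 0
  rw [hM, ← map_pow, ← Units.val_pow_eq_pow_val, ← map_pow (rho F), pow_orderOf_eq_one, map_one,
    Units.val_one, map_one, one_mulVec] at this
  refine orderOf_dvd_of_pow_eq_one ?_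
  simpa [hv] using this.symm

omit [Fintype F] in
theorem comm_pair : ∀ r ∈ ([4, 7] : List ℕ), G2Data.tab.commT 11 r = [] := by decide +kernel

omit [Fintype F] in
theorem xe_commute_comp2 (T : F) : Commute (xe 11 (1 : F)) (comp2 T 1) := by
  have h : ∀ r ∈ ([4, 7] : List ℕ), ∀ t : F, Commute (xe 11 (1 : F)) (xe r t) := by
    intro r hr t
    have hrn : r < chevG2.nroots := by revert r; decide
    have hc := good_G2.full.x_comm (r := 11) (s := r) (by decide) hrn
      (by revert r; decide) (by revert r; decide) (1 : F) t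
    rw [good_G2.full.cert.commWord_eq (by decide) hrn, comm_pair r hr] at hc
    have e : good_G2.full.x r t * good_G2.full.x 11 (1 : F) =
        good_G2.full.x 11 (1 : F) * good_G2.full.x r t := by simpa [rhsWord] using hc
    exact Subtype.ext e.symm
  have he : te (F := F) (fun i : Fin chevG2.rank => if i = 0 then 1 else 1) = 1 := by
    simp only [ite_self]
    exact map_one te
  rw [comp2, he, mul_one]
  exact ((h 7 (by decide) _).mul_right (h 4 (by decide) _)).mul_right (h 7 (by decide) _)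

theorem orderOf_xe (p : ℕ) [Fact p.Prime] [CharP F p] : orderOf (xe 11 (1 : F)) = p := by
  refine orderOf_eq_prime (xe_pow_p 11 1) fun h => ?_
  have h0 := congrArg (fun g : GL (Fin 7) F => (g : Matrix (Fin 7) (Fin 7) F) 0 5)
    (congrArg (rho F) h)
  rw [rho_x, map_one] at h0
  simp [xm, entR, ents] at h0

theorem mem_p_mul {K : Type*} [Field K] [Fintype K] (p : ℕ) [Fact p.Prime] [CharP F p]
    (f : F →+* K) {ω : K} (hω : ω ≠ 0) {T : F} (hT : f T = ω + ω⁻¹) (hcop : Nat.Coprime p (orderOf ω)) :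
    p * orderOf ω ∈ Set.range (orderOf : chevG2.group F → ℕ) := by
  have hd : orderOf ω ∣ orderOf (comp2 T 1) := block_order f (by
    rw [hT, Units.val_one, map_one]
    field_simp
    ring)
  set g := comp2 T 1 ^ (orderOf (comp2 T 1) / orderOf ω) with hg
  have hgo : orderOf g = orderOf ω := orderOf_pow_orderOf_div (orderOf_pos _).ne' hd
  refine ⟨xe 11 (1 : F) * g, ?_⟩
  rw [Commute.orderOf_mul_eq_mul_orderOf_of_coprime ((xe_commute_comp2 T).pow_right _)
    (by rw [orderOf_xe p, hgo]; exact hcop), orderOf_xe p, hgo]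

theorem mem_q_sub (p : ℕ) [Fact p.Prime] [CharP F p] {a : ℕ} (ha : 1 ≤ a)
    (hF : Fintype.card F = p ^ a) :
    p * (p ^ a - 1) ∈ Set.range (orderOf : chevG2.group F → ℕ) := by
  obtain ⟨γ, hγ⟩ := IsCyclic.exists_generator (α := Fˣ)
  have ho : orderOf (γ : F) = p ^ a - 1 := by
    rw [orderOf_units, orderOf_eq_card_of_forall_mem_zpowers hγ, Nat.card_units,
      Nat.card_eq_fintype_card, hF]
  rw [← ho]
  refine mem_p_mul p (RingHom.id F) γ.ne_zero (T := (γ : F) + (γ : F)⁻¹) rfl ?_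
  rw [ho]
  have hpa : p ∣ p ^ a := dvd_pow_self p (by omega)
  rw [(Fact.out : p.Prime).coprime_iff_not_dvd]
  intro h
  have h1 : 1 ≤ p ^ a := Nat.one_le_pow _ _ (Fact.out : p.Prime).pos
  have := Nat.dvd_sub hpa h
  rw [Nat.sub_sub_self h1, Nat.dvd_one] at this
  exact (Fact.out : p.Prime).ne_one this

theorem exists_quadratic {q : ℕ} (hq : Fintype.card F = q) :
    ∃ (K : Type) (_ : Field K) (_ : Fintype K) (f : F →+* K) (γ : Kˣ),
      orderOf (γ : K) = q * q - 1 ∧ ∀ x : K, x ^ q = x → ∃ y, f y = x := by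
  obtain ⟨K, hKf, hKt, f, hK⟩ := Tab.Good.exists_field_ext (F := F) 2
  obtain ⟨γ, hγ⟩ := IsCyclic.exists_generator (α := Kˣ)
  refine ⟨K, hKf, hKt, f, γ, ?_, fun x hx => ?_⟩
  · rw [orderOf_units, orderOf_eq_card_of_forall_mem_zpowers hγ, Nat.card_units,
      Nat.card_eq_fintype_card, hK, hq, sq]
  classical
  have hq1 : 1 < q := hq ▸ Fintype.one_lt_card
  have hne : ((Polynomial.X : K[X]) ^ q - Polynomial.X) ≠ 0 :=
    FiniteField.X_pow_card_sub_X_ne_zero K hq1
  have hsub : Finset.univ.image f ⊆ ((Polynomial.X : K[X]) ^ q - Polynomial.X).roots.toFinset := by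
    intro b hb
    obtain ⟨a, -, rfl⟩ := Finset.mem_image.mp hb
    rw [Multiset.mem_toFinset, mem_roots hne]
    simp [← map_pow, ← hq, FiniteField.pow_card]
  have hcard : ((Polynomial.X : K[X]) ^ q - Polynomial.X).roots.toFinset.card ≤
      (Finset.univ.image f).card := by
    rw [Finset.card_image_of_injective _ f.injective, Finset.card_univ, hq]
    exact le_trans (Multiset.toFinset_card_le _) (le_trans (card_roots' _)
      (le_of_eq (FiniteField.X_pow_card_sub_X_natDegree_eq K hq1)))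
  have hmem : x ∈ ((Polynomial.X : K[X]) ^ q - Polynomial.X).roots.toFinset := by
    rw [Multiset.mem_toFinset, mem_roots hne]
    simp [hx]
  rw [← Finset.eq_of_subset_of_card_le hsub hcard] at hmem
  obtain ⟨y, -, hy⟩ := Finset.mem_image.mp hmem
  exact ⟨y, hy⟩

theorem mem_q_add (p : ℕ) [Fact p.Prime] [CharP F p] {a : ℕ} (ha : 1 ≤ a)
    (hF : Fintype.card F = p ^ a) :
    p * (p ^ a + 1) ∈ Set.range (orderOf : chevG2.group F → ℕ) := by
  obtain ⟨K, _, _, f, γ, hγ, hfix⟩ := exists_quadratic hF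
  set q := p ^ a with hqdef
  have h1 : 1 < q := hF ▸ Fintype.one_lt_card
  have hfac : q * q - 1 = (q - 1) * (q + 1) := by
    rw [← Nat.sq_sub_sq q 1 |>.trans (Nat.mul_comm _ _)]
    simp [sq]
  set ω : K := (γ : K) ^ (q - 1) with hω
  have hne : ω ≠ 0 := pow_ne_zero _ γ.ne_zero
  have ho : orderOf ω = q + 1 := by
    rw [hω, orderOf_pow' _ (by omega : q - 1 ≠ 0), hγ, hfac, Nat.gcd_eq_right (Dvd.intro _ rfl),
      Nat.mul_div_cancel_left _ (by omega)]
  have hωq : ω ^ q = ω⁻¹ := eq_inv_of_mul_eq_one_left (by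
    rw [← pow_succ, ← ho, pow_orderOf_eq_one])
  haveI : CharP K p := charP_of_injective_ringHom f.injective p
  obtain ⟨T, hT⟩ := hfix (ω + ω⁻¹) (by
    rw [hqdef, add_pow_char_pow, ← hqdef, inv_pow, hωq, inv_inv, add_comm])
  rw [← ho]
  refine mem_p_mul p f hne hT ?_
  rw [ho, (Fact.out : p.Prime).coprime_iff_not_dvd]
  intro h
  have hpa : p ∣ q := dvd_pow_self p (by omega)
  exact (Fact.out : p.Prime).ne_one (Nat.dvd_one.mp ((Nat.dvd_add_right hpa).mp h))

theorem mem_q_sq (p : ℕ) [Fact p.Prime] [CharP F p] {a : ℕ}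
    (hF : Fintype.card F = p ^ a) :
    p ^ a * p ^ a - 1 ∈ Set.range (orderOf : chevG2.group F → ℕ) := by
  obtain ⟨K, _, _, f, γ, hγ, hfix⟩ := exists_quadratic hF
  set q := p ^ a with hqdef
  haveI : CharP K p := charP_of_injective_ringHom f.injective p
  set ω : K := (γ : K) with hω
  have h1 : 1 ≤ q * q := by have := hF ▸ Fintype.card_pos (α := F); nlinarith
  have hqq : (ω ^ q) ^ q = ω := by
    rw [← pow_mul, show q * q = (q * q - 1) + 1 by omega, pow_succ, ← hγ, pow_orderOf_eq_one,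
      one_mul]
  obtain ⟨T, hT⟩ := hfix (ω + ω ^ q) (by
    rw [hqdef, add_pow_char_pow, ← hqdef, hqq, add_comm])
  obtain ⟨N, hN⟩ := hfix (ω * ω ^ q) (by rw [mul_pow, hqq, mul_comm])
  have hNne : N ≠ 0 := fun h => by
    rw [h, map_zero] at hN
    exact mul_ne_zero γ.ne_zero (pow_ne_zero _ γ.ne_zero) hN.symm
  rw [← hγ]
  refine mem_range_of_dvd (block_order f (ω := ω) (T := T) (N := Units.mk0 N hNne) ?_)
  rw [Units.val_mk0, hN, hT]
  ring

omit [Fintype F] in
theorem mem_elliptic {n : ℕ} (h : ∃ H : Subgroup ↥(chevG2.group F), IsCyclic ↥H ∧ Nat.card ↥H = n ∧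
      Subgroup.centralizer (H : Set ↥(chevG2.group F)) = H) :
    n ∈ Set.range (orderOf : chevG2.group F → ℕ) := by
  obtain ⟨H, hc, hn, -⟩ := h
  obtain ⟨g, hg⟩ := IsCyclic.exists_generator (α := H)
  exact ⟨g, by rw [Subgroup.orderOf_coe, orderOf_eq_card_of_forall_mem_zpowers hg, hn]⟩

theorem mem_phi_three {q : ℕ} (hF : Fintype.card F = q) (hq : 3 ≤ q) :
    q ^ 2 + q + 1 ∈ Set.range (orderOf : chevG2.group F → ℕ) :=
  mem_elliptic (EllipticData.g2 q hF hq)

theorem nine_not : ∀ x : ZMod (3 ^ 2), x ^ 2 - x + 1 ≠ 0 := by decide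

theorem four_not : ∀ x : ZMod (2 ^ 2), x ^ 2 - x + 1 ≠ 0 := by decide

theorem mem_phi_six {q : ℕ} (hF : Fintype.card F = q) (hq : 4 ≤ q) :
    q * q - q + 1 ∈ Set.range (orderOf : chevG2.group F → ℕ) := by
  have hqq : q ≤ q * q := Nat.le_mul_self q
  refine mem_elliptic (EllipticData.elliptic_of good_G2 InvolData.scG2 (d := 6) hF (by norm_num)
    (by rw [show (6 : ℕ) = 2 * 3 by norm_num, Nat.totient_mul (by norm_num),
      Nat.totient_two, Nat.totient_prime Nat.prime_three]; rfl)
    (by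
      rw [cyclotomic_six]
      simp only [eval_add, eval_sub, eval_pow, eval_X, eval_one]
      push_cast [Nat.cast_sub hqq]
      ring)
    (by have := Nat.mul_le_mul hq (le_refl q); omega) (fun ℓ hℓ hd => ?_) G2Data.levels_ok
    (fun r hr h => ?_) ?_)
  · have hl : ℓ = 2 ∨ ℓ = 3 := by
      have := Nat.le_of_dvd (by norm_num) hd
      interval_cases ℓ <;> simp_all (config := { decide := true })
    rcases hl with rfl | rfl <;> refine EllipticData.sq_of_mod ?_ <;>
      rw [Nat.cast_add, Nat.cast_sub hqq, Nat.cast_mul, Nat.cast_one, ← sq]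
    · exact four_not _
    · exact nine_not _
  · rcases Nat.lt_or_ge r 4 with h4 | h4
    · interval_cases r <;> simp_all (config := { decide := true })
    · intro hdvd
      have e : (G2Data.levels.map fun l => l.2.2.length).prod = 2 ^ 2 * 3 := by decide +kernel
      rw [e] at hdvd
      rcases hr.dvd_mul.mp hdvd with h2 | h2
      · have := Nat.le_of_dvd (by norm_num) (hr.dvd_of_dvd_pow h2); omega
      · have := Nat.le_of_dvd (by norm_num) h2; omega
  · rw [Cfsg.Agent.S1059.result hF]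
    exact dvd_mul_left _ _

end CfsgLib.Chev.G2Spec
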