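import Cfsg.Agent.Chev.G2Spec.Eigen
import Cfsg.Agent.Chev.G2Sections
import Cfsg.Agent.Chev.Twisted

/-!
An element of `G₂` with an isotropic eigenvector in the seven-dimensional representation is
conjugate into a Borel subgroup when enough roots of unity are present.
-/

set_option autoImplicit false

namespace CfsgLib.Chev.G2Spec

open Cfsg.Lie Matrix

local instance neZeroRankG2' : NeZero chevG2.rank := ⟨by decide⟩

/-- Membership in the Borel subgroup. -/
def InB {F : Type*} [Field F] (g : chevG2.group F) : Prop :=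
  (g : GL chevG2.Idx F) ∈ chevG2.borelSubgroup F

/-- Membership in the maximal unipotent subgroup. -/
def InU {F : Type*} [Field F] (g : chevG2.group F) : Prop :=
  (g : GL chevG2.Idx F) ∈ chevG2.posUnipotent F

variable {F : Type*} [Field F]

theorem InB.mul {g h : chevG2.group F} (hg : InB g) (hh : InB h) : InB (g * h) := mul_mem hg hh

theorem InB.inv {g : chevG2.group F} (hg : InB g) : InB g⁻¹ := inv_mem hg

theorem InU.inB {g : chevG2.group F} (hg : InU g) : InB g := good_G2.pos_le_borel hg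

theorem inB_te (c : Fin chevG2.rank → Fˣ) : InB (te c) := good_G2.borel_hT c

theorem inU_xe {r : ℕ} (hr : Tab.IsPos chevG2 r) (t : F) : InU (xe r t) := by
  show (xe r t : GL chevG2.Idx F) ∈ _
  rw [good_G2.posUnipotent_eq]
  exact good_G2.x_mem_US hr t

/-- Upper triangular with non-zero diagonal. -/
def Tri (M : Matrix (Fin 7) (Fin 7) F) : Prop := ∀ b, (∀ i, b < i → M i b = 0) ∧ M b b ≠ 0

theorem tri_mul {M N : Matrix (Fin 7) (Fin 7) F} (hM : Tri M) (hN : Tri N) : Tri (M * N) := by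
  refine fun b => ⟨fun i hi => ?_, ?_⟩
  · rw [Matrix.mul_apply]
    refine Finset.sum_eq_zero fun j _ => ?_
    rcases le_or_gt i j with h | h
    · rw [(hN b).1 j (lt_of_lt_of_le hi h), mul_zero]
    · rw [(hM j).1 i h, zero_mul]
  · rw [Matrix.mul_apply, Finset.sum_eq_single b (fun j _ hj => ?_) (by simp)]
    · exact mul_ne_zero (hM b).2 (hN b).2
    · rcases lt_or_gt_of_ne hj with h | h
      · rw [(hM j).1 b h, zero_mul]
      · rw [(hN b).1 j h, mul_zero]

theorem entR_upper : ∀ r < 12, 6 ≤ r → ∀ e ∈ entR r, e.1 < e.2.1 := by decide +kernel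

theorem tri_xm {r : ℕ} (hr : 6 ≤ r) (t : F) : Tri (xm r t) := by
  intro b
  have key : ∀ i j : Fin 7, j ≤ i → ((entR r).map fun e => if e.1 = i ∧ e.2.1 = j then
      (e.2.2.2 : F) * t ^ e.2.2.1 else 0).sum = 0 := by
    intro i j hji
    refine List.sum_eq_zero fun x hx => ?_
    obtain ⟨e, he, rfl⟩ := List.mem_map.mp hx
    rw [if_neg]
    rintro ⟨rfl, rfl⟩
    by_cases h12 : r < 12
    · exact absurd (entR_upper r h12 hr e he) (not_lt.mpr hji)
    · simp [entR_ge h12] at he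
  refine ⟨fun i hi => ?_, ?_⟩
  · simp [xm, key i b hi.le, hi.ne']
  · simp [xm, key b b le_rfl]

variable [Finite F]

theorem tri_te (c : Fin chevG2.rank → Fˣ) :
    Tri (rho F (te c) : Matrix (Fin 7) (Fin 7) F) := by
  intro b
  have h := fun i => congrFun (rho_te c b) i
  simp only [mulVec_single, MulOpposite.op_one, one_smul, Matrix.col_apply, Pi.smul_apply,
    smul_eq_mul, Pi.single_apply, mul_ite, mul_one, mul_zero] at h
  exact ⟨fun i hi => by rw [h i, if_neg hi.ne'], by rw [h b, if_pos rfl]; exact Units.ne_zero _⟩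

theorem tri_inU {g : chevG2.group F} (hg : InU g) : Tri (rho F g : Matrix (Fin 7) (Fin 7) F) := by
  have hg' : g ∈ Subgroup.closure {x : chevG2.group F | ∃ r t, 6 ≤ r ∧ x = xe r t} := by
    have : chevG2.posUnipotent F ≤
        (Subgroup.closure {x : chevG2.group F | ∃ r t, 6 ≤ r ∧ x = xe r t}).map
          (chevG2.group F).subtype := by
      rw [good_G2.posUnipotent_eq, Tab.Good.US, Subgroup.closure_le]
      rintro _ ⟨r, ⟨-, hr2⟩, t, rfl⟩
      have : 6 ≤ r := by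
        have : chevG2.nroots = 12 := rfl
        omega
      exact ⟨xe r t, Subgroup.subset_closure ⟨r, t, this, rfl⟩, rfl⟩
    obtain ⟨x, hx, e⟩ := this hg
    rwa [← show x = g from Subtype.ext e]
  clear hg
  induction hg' using Subgroup.closure_induction'' with
  | mem x hx =>
    obtain ⟨r, t, hr, rfl⟩ := hx
    rw [rho_x, coe_xg]
    exact tri_xm hr t
  | inv_mem x hx =>
    obtain ⟨r, t, hr, rfl⟩ := hx
    rw [show (xe r t)⁻¹ = xe r (-t) from Subtype.ext (good_G2.full.x_inv r t), rho_x, coe_xg]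
    exact tri_xm hr (-t)
  | one => exact fun b => ⟨fun i hi => by simp [hi.ne'], by simp⟩
  | mul x y _ _ hx hy => rw [map_mul, Units.val_mul]; exact tri_mul hx hy

theorem tri_inB {g : chevG2.group F} (hg : InB g) : Tri (rho F g : Matrix (Fin 7) (Fin 7) F) := by
  obtain ⟨u, hu, c, e⟩ := good_G2.mem_borel.mp hg
  have hug : u ∈ chevG2.group F := good_G2.borel_le_group (good_G2.pos_le_borel hu)
  rw [show g = ⟨u, hug⟩ * te c from Subtype.ext e, map_mul, Units.val_mul]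
  exact tri_mul (tri_inU (g := ⟨u, hug⟩) hu) (tri_te c)

theorem words_nine : ∀ w ∈ G2Sections.words,
    G2Data.tab.wordT (w.map Fin.val) 9 = 9 → w = [] ∨ w = [1] := by decide +kernel

theorem words_cover (L : List (Fin chevG2.rank)) :
    ∃ w ∈ G2Sections.words, good_G2.full.pw L = good_G2.full.pw w := by
  induction L with
  | nil => exact ⟨[], List.mem_cons_self .., rfl⟩
  | cons i L ih =>
    obtain ⟨w, hw, e⟩ := ih
    obtain ⟨w', hw', e'⟩ := G2Sections.words_closed i w hw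
    refine ⟨w', hw', Equiv.ext fun s => Fin.ext ?_⟩
    rw [good_G2.pw_cons, e, ← good_G2.pw_cons, good_G2.pw_apply, good_G2.pw_apply, e' s]

theorem sword_ne : ∀ i : Fin chevG2.rank, ∀ a b : Fin 7, sperm i a = sperm i b → a = b := by
  decide +kernel

theorem sword_inj : ∀ (L : List (Fin chevG2.rank)) {a b : Fin 7}, sword L a = sword L b → a = b
  | [], _, _, h => h
  | i :: L, _, _, h => sword_inj L (sword_ne i _ _ h)

omit [Finite F] in
theorem ne_eq_of_pw {L w : List (Fin chevG2.rank)} (h : good_G2.full.pw L = good_G2.full.pw w) :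
    ∃ e : Fin chevG2.rank → Fˣ, (ne L : chevG2.group F) = ne w * te e := by
  have hmem : (good_G2.full.nw F w)⁻¹ * good_G2.full.nw F L ∈ chevG2.monomialSubgroup F :=
    mul_mem (inv_mem (good_G2.nw_mem_monomial _)) (good_G2.nw_mem_monomial _)
  have hact : good_G2.full.RootAct ((good_G2.full.nw F w)⁻¹ * good_G2.full.nw F L) 1 := by
    have := good_G2.rootAct_mul (good_G2.rootAct_inv (good_G2.nw_mem_monomial (F := F) w)
      (good_G2.rootAct_nw w)) (good_G2.rootAct_nw (F := F) L)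
    rwa [h, inv_mul_cancel] at this
  have hd := good_G2.mem_diagonal_of_pos hmem hact fun s hs => hs
  rw [good_G2.full.diagonal_eq_range] at hd
  obtain ⟨e, he⟩ := hd
  refine ⟨e, Subtype.ext ?_⟩
  show ((ne L : chevG2.group F) : GL chevG2.Idx F) =
    ((ne w : chevG2.group F) : GL chevG2.Idx F) * G2Data.tab.hT F e
  rw [coe_ne, coe_ne, he, mul_inv_cancel_left]

/-- An element fixing the highest line lies in `B` or in `B n B`. -/
theorem line_stab {g : chevG2.group F}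
    (hg : ∀ i, i ≠ 0 → (rho F g : Matrix (Fin 7) (Fin 7) F) i 0 = 0) :
    InB g ∨ ∃ b₁ b₂, InB b₁ ∧ InB b₂ ∧ g = b₁ * ne [1] * b₂ := by
  obtain ⟨v, hv, a, L, u, hu, e⟩ := good_G2.normal_form g.2
  have huU : u ∈ chevG2.posUnipotent F := by
    rw [good_G2.posUnipotent_eq]
    exact Subgroup.closure_mono (by rintro x ⟨r, ⟨_, hr, -⟩, t, hx⟩; exact ⟨r, hr, t, hx⟩) hu
  set v' : chevG2.group F := ⟨v, good_G2.borel_le_group (good_G2.pos_le_borel hv)⟩
  set u' : chevG2.group F := ⟨u, good_G2.borel_le_group (good_G2.pos_le_borel huU)⟩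
  have hb : InB (v' * te a) := InB.mul (InU.inB (g := v') hv) (inB_te a)
  have hge : g = v' * te a * ne L * u' := Subtype.ext (by
    rw [Subgroup.coe_mul, Subgroup.coe_mul, Subgroup.coe_mul, coe_ne]; exact e)
  -- the image of the highest vector
  have hs : sword L 0 = 0 := by
    by_contra hs
    obtain ⟨η, hη, hn⟩ := rho_ne (F := F) L 0
    have hu0 : (rho F u' : Matrix (Fin 7) (Fin 7) F) *ᵥ Pi.single 0 1 =
        (rho F u' : Matrix (Fin 7) (Fin 7) F) 0 0 • Pi.single 0 1 := by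
      funext i
      by_cases hi : i = 0
      · subst hi; simp [mulVec_single]
      · have := (tri_inU (g := u') huU 0).1 i (Fin.pos_iff_ne_zero.mpr hi)
        simp [mulVec_single, hi, this]
    have := hg (sword L 0) hs
    rw [hge, map_mul, map_mul, Units.val_mul, Units.val_mul] at this
    have h' : (((rho F (v' * te a) : GL (Fin 7) F) : Matrix (Fin 7) (Fin 7) F) *ᵥ
        ((rho F (ne L) : Matrix (Fin 7) (Fin 7) F) *ᵥ
          ((rho F u' : Matrix (Fin 7) (Fin 7) F) *ᵥ Pi.single 0 1))) (sword L 0) = 0 := by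
      rw [mulVec_mulVec, mulVec_mulVec, mulVec_single]
      simpa using this
    rw [hu0, mulVec_smul, hn, mulVec_smul, mulVec_smul] at h'
    simp [mulVec_single, (tri_inU (g := u') huU 0).2, hη] at h'
    have := (tri_inB hb (sword L 0)).2
    rw [map_mul, Units.val_mul] at this
    exact this h'
  obtain ⟨w, hw, hpw⟩ := words_cover L
  have h9 : G2Data.tab.wordT (w.map Fin.val) 9 = 9 := by
    have h := (sword_root L 0 (by decide)).2
    rw [hs, show wroot 0 = 9 from rfl] at h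
    have e9 := congrArg (fun σ : Equiv.Perm (Fin chevG2.nroots) => (σ ⟨9, by decide⟩).val) hpw
    simp only [good_G2.pw_apply] at e9
    rw [← e9, h]
  obtain ⟨c, hc⟩ := ne_eq_of_pw (F := F) hpw
  have hb2 : InB (te c * u') := InB.mul (inB_te c) (InU.inB (g := u') huU)
  rcases words_nine w hw h9 with rfl | rfl
  · refine Or.inl ?_
    rw [hge, hc, show (ne [] : chevG2.group F) = 1 from rfl, one_mul, mul_assoc]
    exact hb.mul hb2
  · exact Or.inr ⟨v' * te a, te c * u', hb, hb2, by rw [hge, hc]; group⟩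

theorem sw_sq : ∀ j : Fin 7, sword [1] (sword [1] j) = j := by decide +kernel

theorem line_stab_block {g : chevG2.group F}
    (hg : ∀ i, i ≠ 0 → (rho F g : Matrix (Fin 7) (Fin 7) F) i 0 = 0) :
    (∀ i j : Fin 7, 2 < i → j ≤ 2 → (rho F g : Matrix (Fin 7) (Fin 7) F) i j = 0) ∧
      ((rho F g : Matrix (Fin 7) (Fin 7) F) 2 1 = 0 → InB g) := by
  rcases line_stab hg with h | ⟨b₁, b₂, h1, h2, rfl⟩
  · exact ⟨fun i j hi hj => (tri_inB h j).1 i (lt_of_le_of_lt hj hi), fun _ => h⟩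
  obtain ⟨A, hAd⟩ : ∃ A : Matrix (Fin 7) (Fin 7) F, A = ↑(rho F b₁) := ⟨_, rfl⟩
  obtain ⟨B, hBd⟩ : ∃ B : Matrix (Fin 7) (Fin 7) F, B = ↑(rho F b₂) := ⟨_, rfl⟩
  obtain ⟨N, hNdef⟩ : ∃ N : Matrix (Fin 7) (Fin 7) F, N = ↑(rho F (ne [1])) := ⟨_, rfl⟩
  have hN : ∀ i j : Fin 7, i ≠ sword [1] j → N i j = 0 := fun i j h => by
    obtain ⟨η, -, e⟩ := rho_ne (F := F) [1] j
    have := congrFun e i
    simpa [mulVec_single, h, hNdef] using this
  have hNd : ∀ j : Fin 7, N (sword [1] j) j ≠ 0 := fun j => by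
    obtain ⟨η, hη, e⟩ := rho_ne (F := F) [1] j
    have := congrFun e (sword [1] j)
    simp only [mulVec_single, MulOpposite.op_one, one_smul, Matrix.col_apply, Pi.smul_apply,
      Pi.single_eq_same, smul_eq_mul, mul_one] at this
    rwa [hNdef, this]
  have hA : Tri A := hAd ▸ tri_inB h1
  have hB : Tri B := hBd ▸ tri_inB h2
  have hfin : ∀ j l : Fin 7, j ≤ 2 → l ≤ j → sword [1] l ≤ 2 := by decide +kernel
  have e : ∀ i j, ((rho F (b₁ * ne [1] * b₂) : GL (Fin 7) F) : Matrix (Fin 7) (Fin 7) F) i j =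
      ∑ l, A i (sword [1] l) * N (sword [1] l) l * B l j := fun i j => by
    rw [map_mul, map_mul, Units.val_mul, Units.val_mul, ← hAd, ← hBd, ← hNdef, Matrix.mul_apply]
    refine Finset.sum_congr rfl fun l _ => ?_
    rw [Matrix.mul_apply, Finset.sum_eq_single (sword [1] l)
      (fun k _ hk => by rw [hN k l hk, mul_zero]) (by simp)]
  refine ⟨fun i j hi hj => ?_, fun h21 => absurd h21 ?_⟩
  · rw [e]
    refine Finset.sum_eq_zero fun l _ => ?_
    rcases le_or_gt l j with h | h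
    · rw [(hA _).1 i (lt_of_le_of_lt (hfin j l hj h) hi), zero_mul, zero_mul]
    · rw [(hB j).1 l h, mul_zero]
  · rw [e, Finset.sum_eq_single 1 (fun l _ hl => ?_) (by simp)]
    · exact mul_ne_zero (mul_ne_zero (hA _).2 (hNd 1)) (hB 1).2
    · rcases lt_or_gt_of_ne hl with h | h
      · obtain rfl : l = 0 := by omega
        rw [show sword [1] 0 = 0 from rfl, (hA 0).1 2 (by decide), zero_mul, zero_mul]
      · rw [(hB 1).1 l h, mul_zero]

open Polynomial in
/-- An element fixing the highest line is conjugate into `B`. -/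
theorem conj_of_line {g : chevG2.group F} {N : ℕ} (hN : 0 < N) (hgN : g ^ N = 1)
    (hs : ((X : F[X]) ^ N - 1).Splits)
    (hg : ∀ i, i ≠ 0 → (rho F g : Matrix (Fin 7) (Fin 7) F) i 0 = 0) :
    ∃ y, InB (y * g * y⁻¹) := by
  set Φ : Matrix (Fin 7) (Fin 7) F := ↑(rho F g) with hΦ
  obtain ⟨hblock, -⟩ := line_stab_block hg
  replace hblock : ∀ (i j : Fin 7), 2 < i → j ≤ 2 → Φ i j = 0 := hblock
  -- it suffices to find a vector
  have key : ∀ z : chevG2.group F, (∀ i, i ≠ 0 → (rho F z : Matrix (Fin 7) (Fin 7) F) i 0 = 0) →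
      (((rho F z⁻¹ : GL (Fin 7) F) : Matrix (Fin 7) (Fin 7) F) *ᵥ (Φ *ᵥ
        (((rho F z : GL (Fin 7) F) : Matrix (Fin 7) (Fin 7) F) *ᵥ Pi.single 1 1))) 2 = 0 →
      (∀ i, i ≠ 0 → (rho F z⁻¹ : Matrix (Fin 7) (Fin 7) F) i 0 = 0) →
      InB (z⁻¹ * g * z⁻¹⁻¹) := by
    intro z hz hv hz'
    rw [inv_inv]
    have hline : ∀ (M M' : Matrix (Fin 7) (Fin 7) F), (∀ i, i ≠ 0 → M i 0 = 0) →
        (∀ i, i ≠ 0 → M' i 0 = 0) → ∀ i, i ≠ 0 → (M * M') i 0 = 0 := fun M M' h h' i hi => by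
      rw [Matrix.mul_apply]
      refine Finset.sum_eq_zero fun l _ => ?_
      by_cases hl : l = 0
      · rw [hl, h i hi, zero_mul]
      · rw [h' l hl, mul_zero]
    refine (line_stab_block fun i hi => ?_).2 ?_
    · rw [map_mul, map_mul, Units.val_mul, Units.val_mul]
      exact hline _ _ (hline _ _ hz' hg) hz i hi
    · rw [map_mul, map_mul, Units.val_mul, Units.val_mul]
      rw [mulVec_mulVec, mulVec_mulVec, mulVec_single] at hv
      simpa using hv
  by_cases ha : Φ 1 2 = 0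
  · -- the third basis vector is an eigenvector modulo the line
    have hn : ∀ (z : chevG2.group F), z = ne [1] ∨ z = (ne [1])⁻¹ → ∀ i j : Fin 7,
        i ≠ sword [1] j → (rho F z : Matrix (Fin 7) (Fin 7) F) i j = 0 := by
      intro z hz i j hij
      rcases hz with rfl | rfl
      · obtain ⟨η, -, e⟩ := rho_ne (F := F) [1] j
        simpa [mulVec_single, hij] using congrFun e i
      · obtain ⟨η, hη, e⟩ := rho_ne (F := F) [1] (sword [1] j)
        rw [sw_sq j] at e
        have e2 : (((rho F (ne [1]))⁻¹ : GL (Fin 7) F) : Matrix (Fin 7) (Fin 7) F) *ᵥ Pi.single j 1 =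
            η⁻¹ • Pi.single (sword [1] j) (1 : F) := by
          rw [eq_inv_smul_iff₀ hη, ← mulVec_smul, ← e, mulVec_mulVec, ← Units.val_mul,
            inv_mul_cancel, Units.val_one, one_mulVec]
        rw [map_inv]
        simpa [mulVec_single, hij] using congrFun e2 i
    refine ⟨(ne [1])⁻¹, key (ne [1]) (fun i hi => hn _ (Or.inl rfl) i 0 hi) ?_
      (fun i hi => hn _ (Or.inr rfl) i 0 hi)⟩
    rw [mulVec_mulVec, mulVec_mulVec, mulVec_single]
    simp only [MulOpposite.op_one, one_smul, Matrix.col_apply, Matrix.mul_apply]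
    refine Finset.sum_eq_zero fun l _ => ?_
    by_cases hl : l = sword [1] 1
    · subst hl
      rw [show sword [1] (1 : Fin 7) = 2 from rfl,
        Finset.sum_eq_single 1 (fun k _ hk => ?_) (by simp), ha, mul_zero, zero_mul]
      rw [hn _ (Or.inr rfl) 2 k (by revert k; decide +kernel), zero_mul]
    · rw [hn _ (Or.inl rfl) l 1 hl, mul_zero]
  · -- the block on the second and third basis vectors
    obtain ⟨ι, hι0, hι1⟩ : ∃ ι : Fin 2 → Fin 7, ι 0 = 1 ∧ ι 1 = 2 := ⟨![1, 2], rfl, rfl⟩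
    have hpow : ∀ k, (∀ i, i ≠ 0 → (Φ ^ k) i 0 = 0) ∧
        (∀ i j, (Φ ^ k) (ι i) (ι j) = ((Φ.submatrix ι ι) ^ k) i j) := by
      intro k
      induction k with
      | zero =>
        refine ⟨fun i hi => by simp [hi], fun i j => ?_⟩
        fin_cases i <;> fin_cases j <;> simp [hι0, hι1]
      | succ k ih =>
        refine ⟨fun i hi => ?_, fun i j => ?_⟩
        · rw [pow_succ, Matrix.mul_apply]
          refine Finset.sum_eq_zero fun l _ => ?_
          by_cases hl : l = 0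
          · rw [hl, ih.1 i hi, zero_mul]
          · rw [hg l hl, mul_zero]
        · rw [pow_succ, pow_succ, Matrix.mul_apply, Matrix.mul_apply]
          simp only [← ih.2, Matrix.submatrix_apply, Fin.sum_univ_two, Fin.sum_univ_seven]
          have h0 : (Φ ^ k) (ι i) 0 = 0 := ih.1 _ (by fin_cases i <;> simp [hι0, hι1])
          have hj : ι j ≤ 2 := by fin_cases j <;> simp [hι0, hι1]
          rw [h0, hblock 3 _ (by decide) hj, hblock 4 _ (by decide) hj, hblock 5 _ (by decide) hj,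
            hblock 6 _ (by decide) hj]
          simp [hι0, hι1]
    have hA : (Φ.submatrix ι ι) ^ N = 1 := by
      ext i j
      rw [← (hpow N).2, hΦ, ← Units.val_pow_eq_pow_val, ← map_pow, hgN, map_one, Units.val_one]
      fin_cases i <;> fin_cases j <;> simp [hι0, hι1]
    obtain ⟨l, w, hw, hev⟩ := exists_eig hN hA hs
    have e0 := congrFun hev 0
    have e1 := congrFun hev 1
    simp [hι0, hι1, mulVec, dotProduct, Fin.sum_univ_two] at e0 e1
    have hw0 : w 0 ≠ 0 := fun h => by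
      refine hw (funext fun i => ?_)
      fin_cases i
      · exact h
      · rw [h] at e0
        simpa [ha] using e0
    set μ := w 1 / w 0 with hμdef
    have hμ : Φ 2 1 + μ * Φ 2 2 = μ * (Φ 1 1 + μ * Φ 1 2) := by
      rw [hμdef]
      field_simp
      linear_combination w 0 * e1 - w 1 * e0
    have hcol : ∀ t : F, ∀ i, i ≠ 0 → (rho F (xe 5 t) : Matrix (Fin 7) (Fin 7) F) i 0 = 0 := by
      intro t i hi
      rw [rho_x, coe_xg]
      simp [xm, entR, ents, hi]
    have hinv : (xe 5 μ)⁻¹ = xe 5 (-μ) := Subtype.ext (good_G2.full.x_inv 5 μ)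
    refine ⟨(xe 5 μ)⁻¹, key (xe 5 μ) (hcol μ) ?_ (by rw [hinv]; exact hcol _)⟩
    rw [hinv, rho_x, rho_x, coe_xg, coe_xg]
    have hv : ∀ k, (xm 5 μ *ᵥ Pi.single 1 (1 : F)) k =
        (if k = 1 then 1 else 0) + if k = 2 then μ else 0 := by
      intro k
      fin_cases k <;> simp [xm, entR, ents, mulVec_single]
    rw [show xm 5 μ *ᵥ Pi.single 1 (1 : F) = fun k => (if k = 1 then 1 else 0) + if k = 2 then μ else 0
      from funext hv, xm_mulVec]
    simp [entR, ents, mulVec, dotProduct, Fin.sum_univ_seven]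
    linear_combination hμ

theorem zero_words : ∀ i : Fin 7, i ≠ 3 → ∃ L ∈ ([[], [0], [0, 1], [0, 1, 0], [0, 1, 0, 1],
    [0, 1, 0, 1, 0]] : List (List (Fin chevG2.rank))), sword L i = 0 := by decide +kernel

/-- An isotropic vector is moved onto the highest line. -/
theorem exists_move {v : Fin 7 → F} (hv : v ≠ 0) (hq : qf v = 0) :
    ∃ y : chevG2.group F, ((rho F y : Matrix (Fin 7) (Fin 7) F) *ᵥ v) 0 ≠ 0 ∧
      ∀ i, i ≠ 0 → ((rho F y : Matrix (Fin 7) (Fin 7) F) *ᵥ v) i = 0 := by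
  obtain ⟨b, hb3, hb⟩ : ∃ b, b ≠ 3 ∧ v b ≠ 0 := by
    by_contra hc
    push Not at hc
    refine hv (funext fun i => ?_)
    by_cases hi : i = 3
    · subst hi
      simpa [qf, frm, hc 0 (by decide), hc 1 (by decide), hc 2 (by decide)] using hq
    · exact hc i hi
  obtain ⟨L, -, hL⟩ := zero_words b hb3
  set v₀ := (rho F (ne L) : Matrix (Fin 7) (Fin 7) F) *ᵥ v
  have hv0 : v₀ 0 ≠ 0 := by
    obtain ⟨η, hη, e⟩ := rho_ne (F := F) L b
    have hcol : ∀ j, j ≠ b → (rho F (ne L) : Matrix (Fin 7) (Fin 7) F) 0 j = 0 := fun j hj => by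
      obtain ⟨η', -, e'⟩ := rho_ne (F := F) L j
      have hne : (0 : Fin 7) ≠ sword L j := fun h => hj (sword_inj L (h.symm.trans hL.symm))
      simpa [mulVec_single, hne] using congrFun e' 0
    have hd : (rho F (ne L) : Matrix (Fin 7) (Fin 7) F) 0 b = η := by
      simpa [mulVec_single, hL] using congrFun e 0
    show (∑ j, (rho F (ne L) : Matrix (Fin 7) (Fin 7) F) 0 j * v j) ≠ 0
    rw [Finset.sum_eq_single b (fun j _ hj => by rw [hcol j hj, zero_mul]) (by simp), hd]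
    exact mul_ne_zero hη hb
  have step : ∀ (r : ℕ) (t : F) (y : chevG2.group F) (w : Fin 7 → F),
      w = (rho F y : Matrix (Fin 7) (Fin 7) F) *ᵥ v →
      xm r t *ᵥ w = (rho F (xe r t * y) : Matrix (Fin 7) (Fin 7) F) *ᵥ v := fun r t y w hw => by
    rw [hw, map_mul, Units.val_mul, rho_x, coe_xg, mulVec_mulVec]
  obtain ⟨a, ha⟩ : ∃ a, v₀ 0 = a := ⟨_, rfl⟩
  rw [ha] at hv0
  set v₁ := xm 4 (-(v₀ 1) / a) *ᵥ v₀ with h₁
  have a1 : v₁ 0 = a ∧ v₁ 1 = 0 := by
    constructor <;> rw [h₁, xm_mulVec] <;> simp [entR, ents, ha]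
    field_simp
    ring
  set v₂ := xm 3 (v₁ 2 / a) *ᵥ v₁ with h₂
  have a2 : v₂ 0 = a ∧ v₂ 1 = 0 ∧ v₂ 2 = 0 := by
    refine ⟨?_, ?_, ?_⟩ <;> rw [h₂, xm_mulVec] <;> simp [entR, ents, a1.1, a1.2]
    field_simp
    ring
  set v₃ := xm 2 (v₂ 3 / a) *ᵥ v₂ with h₃
  have a3 : v₃ 0 = a ∧ v₃ 1 = 0 ∧ v₃ 2 = 0 ∧ v₃ 3 = 0 := by
    refine ⟨?_, ?_, ?_, ?_⟩ <;> rw [h₃, xm_mulVec] <;> simp [entR, ents, a2.1, a2.2.1, a2.2.2]
    field_simp
    ring
  set v₄ := xm 1 (-(v₃ 4) / a) *ᵥ v₃ with h₄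
  have a4 : v₄ 0 = a ∧ v₄ 1 = 0 ∧ v₄ 2 = 0 ∧ v₄ 3 = 0 ∧ v₄ 4 = 0 := by
    refine ⟨?_, ?_, ?_, ?_, ?_⟩ <;> rw [h₄, xm_mulVec] <;>
      simp [entR, ents, a3.1, a3.2.1, a3.2.2.1, a3.2.2.2]
    field_simp
    ring
  set v₅ := xm 0 (v₄ 5 / a) *ᵥ v₄ with h₅
  have a5 : v₅ 0 = a ∧ v₅ 1 = 0 ∧ v₅ 2 = 0 ∧ v₅ 3 = 0 ∧ v₅ 4 = 0 ∧ v₅ 5 = 0 := by
    refine ⟨?_, ?_, ?_, ?_, ?_, ?_⟩ <;> rw [h₅, xm_mulVec] <;>
      simp [entR, ents, a4.1, a4.2.1, a4.2.2.1, a4.2.2.2.1, a4.2.2.2.2]
    field_simp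
    ring
  refine ⟨xe 0 (v₄ 5 / a) * (xe 1 (-(v₃ 4) / a) * (xe 2 (v₂ 3 / a) * (xe 3 (v₁ 2 / a) *
    (xe 4 (-(v₀ 1) / a) * ne L)))), ?_⟩
  rw [← step 0 _ _ v₄ (step 1 _ _ v₃ (step 2 _ _ v₂ (step 3 _ _ v₁ (step 4 _ _ v₀ rfl))))]
  refine ⟨by rw [← h₅, a5.1]; exact hv0, fun i hi => ?_⟩
  rw [← h₅]
  have h6 : v₅ 6 = 0 := by
    have hq5 : qf v₅ = 0 := by
      rw [h₅, qf_xm, h₄, qf_xm, h₃, qf_xm, h₂, qf_xm, h₁, qf_xm]
      exact (qf_rho _ v).trans hq
    simpa [qf, frm, a5.1, a5.2.1, a5.2.2.1, a5.2.2.2.1, hv0] using hq5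
  fin_cases i
  · exact absurd rfl hi
  all_goals simp [a5.2.1, a5.2.2.1, a5.2.2.2.1, a5.2.2.2.2.1, a5.2.2.2.2.2, h6]

open Polynomial in
/-- An element with an isotropic eigenvector is conjugate into `B`. -/
theorem conj_into_borel {g : chevG2.group F} {N : ℕ} (hN : 0 < N) (hgN : g ^ N = 1)
    (hs : ((X : F[X]) ^ N - 1).Splits) {l : F} {v : Fin 7 → F} (hv : v ≠ 0) (hq : qf v = 0)
    (he : (rho F g : Matrix (Fin 7) (Fin 7) F) *ᵥ v = l • v) : ∃ y, InB (y * g * y⁻¹) := by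
  obtain ⟨y, h0, hy⟩ := exists_move hv hq
  set w := (rho F y : Matrix (Fin 7) (Fin 7) F) *ᵥ v with hw
  have hwe : (rho F (y * g * y⁻¹) : Matrix (Fin 7) (Fin 7) F) *ᵥ w = l • w := by
    rw [hw, mulVec_mulVec, ← Units.val_mul, ← map_mul, inv_mul_cancel_right, map_mul,
      Units.val_mul, ← mulVec_mulVec, he, mulVec_smul]
  have hw0 : w = w 0 • Pi.single 0 (1 : F) := by
    funext i
    by_cases hi : i = 0
    · subst hi; simp
    · simp [hi, hy i hi]
  have hline : ∀ i, i ≠ 0 → (rho F (y * g * y⁻¹) : Matrix (Fin 7) (Fin 7) F) i 0 = 0 := fun i hi => by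
    have := congrFun hwe i
    rw [hw0] at this
    simpa [mulVec_smul, mulVec_single, hi, h0] using this
  obtain ⟨z, hz⟩ := conj_of_line hN (g := y * g * y⁻¹)
    (by rw [conj_pow, hgN, mul_one, mul_inv_cancel]) hs hline
  refine ⟨z * y, ?_⟩
  rw [show z * y * g * (z * y)⁻¹ = z * (y * g * y⁻¹) * z⁻¹ by group]
  exact hz

end CfsgLib.Chev.G2Spec
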