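import Cfsg.Agent.Chev.G2Sections
import Cfsg.Agent.Chev.EllipticTorus

/-!
Integer and congruence computations for twisted tori of `G₂`.
-/

set_option autoImplicit false

namespace CfsgLib.Chev.G2Spec

open Cfsg.Lie

/-- The rank is not zero. -/
local instance neZeroRankW : NeZero chevG2.rank := ⟨by decide⟩

/-- First coordinate of a root. -/
def ra (r : ℕ) : ℤ := G2Data.tab.cart 0 r

/-- Second coordinate of a root. -/
def rb (r : ℕ) : ℤ := G2Data.tab.cart 1 r

/-- The entries of the matrix of a word. -/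
def wm4 (w : List (Fin chevG2.rank)) : ℤ × ℤ × ℤ × ℤ :=
  (G2Data.tab.vM w 0 0, G2Data.tab.vM w 0 1, G2Data.tab.vM w 1 0, G2Data.tab.vM w 1 1)

/-- The positive roots. -/
def posR : List ℕ := [6, 7, 8, 9, 10, 11]

/-- The four kinds of Weyl elements. -/
def kindOK (w : List (Fin chevG2.rank)) : Bool :=
  let (A, B, C, D) := wm4 w
  decide ((A = 1 ∧ B = 0 ∧ C = 0 ∧ D = 1) ∨ (A = -1 ∧ B = 0 ∧ C = 0 ∧ D = -1) ∨
    (A + D = 0 ∧ A * D - B * C = -1) ∨ (A + D = 1 ∧ A * D - B * C = 1) ∨
    (A + D = -1 ∧ A * D - B * C = 1))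

theorem kind_ok : ∀ w ∈ G2Sections.words, kindOK w = true := by decide +kernel

/-- The image of a root under a Weyl element, and the fixed case. -/
def imgOK (w : List (Fin chevG2.rank)) (r : ℕ) : Bool :=
  let (A, B, C, D) := wm4 w
  posR.any fun s => [1, -1].any fun e : ℤ => decide (ra r * A + rb r * C = e * ra s ∧
    ra r * B + rb r * D = e * rb s ∧ (s = r →
      (A * (-rb r) + B * ra r = -rb r ∧ C * (-rb r) + D * ra r = ra r) ∨
      (A * (-rb r) + B * ra r = rb r ∧ C * (-rb r) + D * ra r = -ra r)))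

theorem img_ok : ∀ w ∈ G2Sections.words, ∀ r ∈ posR, imgOK w r = true := by decide +kernel

theorem coprime_ok : ∀ r ∈ posR, ∃ α ∈ ([-2, -1, 0, 1, 2] : List ℤ), ∃ β ∈ ([-2, -1, 0, 1, 2] : List ℤ),
    α * ra r + β * rb r = 1 := by decide +kernel

/-- The determinant of two roots. -/
def rdet (r s : ℕ) : ℤ := ra r * rb s - rb r * ra s

theorem det_ok : ∀ r ∈ posR, ∀ s ∈ posR, r = s ∨ (rdet r s).natAbs ∈ ([1, 2, 3] : List ℕ) := by
  decide +kernel

/-- The three pairs of orthogonal roots. -/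
def orthPairs : List (List ℕ) := [[7, 11], [8, 10], [6, 9]]

theorem det_two_ok : ∀ r ∈ posR, ∀ s ∈ posR, (rdet r s).natAbs = 2 →
    ∃ P ∈ orthPairs, ∀ t ∈ posR, (2 ∣ rdet r t ∧ 2 ∣ rdet s t) → t ∈ P := by decide +kernel

theorem det_three_ok : ∀ r ∈ posR, ∀ s ∈ posR, (rdet r s).natAbs = 3 →
    ∀ t ∈ posR, 3 ∣ rdet r t → t ∈ ([6, 10, 11] : List ℕ) := by decide +kernel

theorem mem_posR {r : ℕ} (h : Tab.IsPos chevG2 r) : r ∈ posR := by
  obtain ⟨h1, h2⟩ := h
  have : chevG2.nroots = 12 := rfl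
  rw [this] at h1 h2
  have : 6 ≤ r := by omega
  interval_cases r <;> decide

section Kill

variable {N : ℕ} {X Y : ZMod N} {q : ℤ}

/-- An integer kills the pair. -/
def Kills (X Y : ZMod N) (k : ℤ) : Prop := (k : ZMod N) * X = 0 ∧ (k : ZMod N) * Y = 0

/-- The root takes the value one. -/
def ZeroAt (X Y : ZMod N) (r : ℕ) : Prop := (ra r : ZMod N) * X + (rb r : ZMod N) * Y = 0

theorem kills_det {r s : ℕ} (hr : ZeroAt X Y r) (hs : ZeroAt X Y s) : Kills X Y (rdet r s) := by
  simp only [Kills, rdet, ZeroAt] at *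
  push_cast
  constructor
  · linear_combination (rb s : ZMod N) * hr - (rb r : ZMod N) * hs
  · linear_combination (ra r : ZMod N) * hs - (ra s : ZMod N) * hr

theorem kills_natAbs {k : ℤ} (h : Kills X Y k) : Kills X Y (k.natAbs : ℤ) := by
  rcases k.natAbs_eq with e | e
  · rw [e] at h; exact h
  · rw [e] at h
    simp only [Kills, Int.cast_neg, neg_mul, neg_eq_zero] at h ⊢
    exact h

theorem kills_coprime {j k : ℤ} (hjk : IsCoprime j k) (hj : Kills X Y j) (hk : Kills X Y k) :
    X = 0 ∧ Y = 0 := by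
  obtain ⟨a, b, e⟩ := hjk
  have e' : (a : ZMod N) * j + (b : ZMod N) * k = 1 := by exact_mod_cast congrArg (Int.cast (R := ZMod N)) e
  constructor
  · linear_combination -X * e' + (a : ZMod N) * hj.1 + (b : ZMod N) * hk.1
  · linear_combination -Y * e' + (a : ZMod N) * hj.2 + (b : ZMod N) * hk.2

variable {w : List (Fin chevG2.rank)} (hw : w ∈ G2Sections.words)
  (e0 : (q : ZMod N) * ((G2Data.tab.vM w 0 0 : ZMod N) * X + (G2Data.tab.vM w 0 1 : ZMod N) * Y) = X)
  (e1 : (q : ZMod N) * ((G2Data.tab.vM w 1 0 : ZMod N) * X + (G2Data.tab.vM w 1 1 : ZMod N) * Y) = Y)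
include hw e0 e1

/-- The possible orders of a twisted torus element. -/
theorem kills_tori : Kills X Y (q ^ 2 - 1) ∨ Kills X Y (q ^ 2 + q + 1) ∨ Kills X Y (q ^ 2 - q + 1) := by
  have h := kind_ok w hw
  simp only [kindOK, wm4] at h
  replace h := of_decide_eq_true h
  set A := G2Data.tab.vM w 0 0
  set B := G2Data.tab.vM w 0 1
  set C := G2Data.tab.vM w 1 0
  set D := G2Data.tab.vM w 1 1
  have key : Kills X Y (1 - (A + D) * q + (A * D - B * C) * q ^ 2) := by
    simp only [Kills]
    push_cast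
    constructor
    · linear_combination ((q : ZMod N) * D - 1) * e0 - (q : ZMod N) * B * e1
    · linear_combination ((q : ZMod N) * A - 1) * e1 - (q : ZMod N) * C * e0
  rcases h with ⟨hA, hB, hC, hD⟩ | ⟨hA, hB, hC, hD⟩ | ⟨ht, hd⟩ | ⟨ht, hd⟩ | ⟨ht, hd⟩
  · refine Or.inl ?_
    simp only [hA, hB, hC, hD, Int.cast_one, Int.cast_zero] at e0 e1
    simp only [Kills]
    push_cast
    constructor
    · linear_combination ((q : ZMod N) + 1) * e0
    · linear_combination ((q : ZMod N) + 1) * e1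
  · refine Or.inl ?_
    simp only [hA, hB, hC, hD, Int.cast_neg, Int.cast_one, Int.cast_zero] at e0 e1
    simp only [Kills]
    push_cast
    constructor
    · linear_combination (1 - (q : ZMod N)) * e0
    · linear_combination (1 - (q : ZMod N)) * e1
  · refine Or.inl ?_
    rw [ht, hd] at key
    simp only [Kills] at key ⊢
    push_cast at key ⊢
    constructor
    · linear_combination -1 * key.1
    · linear_combination -1 * key.2
  · refine Or.inr (Or.inr ?_)
    rw [ht, hd] at key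
    convert key using 1
    ring
  · refine Or.inr (Or.inl ?_)
    rw [ht, hd] at key
    convert key using 1
    ring

/-- The shape of the centralising root set. -/
theorem kills_cases (hq : IsUnit (q : ZMod N)) (hne : ¬ (X = 0 ∧ Y = 0)) {r : ℕ} (hr : r ∈ posR)
    (hr0 : ZeroAt X Y r) :
    ((∀ t ∈ posR, ZeroAt X Y t → t = r) ∧ (Kills X Y (q - 1) ∨ Kills X Y (q + 1))) ∨
    (Kills X Y 2 ∧ ∃ P ∈ orthPairs, ∀ t ∈ posR, ZeroAt X Y t → t ∈ P) ∨
    (Kills X Y 3 ∧ ∀ t ∈ posR, ZeroAt X Y t → t ∈ ([6, 10, 11] : List ℕ)) := by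
  classical
  by_cases hS : ∀ t ∈ posR, ZeroAt X Y t → t = r
  · refine Or.inl ⟨hS, ?_⟩
    have h := img_ok w hw r hr
    simp only [imgOK, wm4, List.any_eq_true] at h
    obtain ⟨s, hs, ε, hε, h⟩ := h
    obtain ⟨hsA, hsB, hfix⟩ := of_decide_eq_true h
    set A := G2Data.tab.vM w 0 0
    set B := G2Data.tab.vM w 0 1
    set C := G2Data.tab.vM w 1 0
    set D := G2Data.tab.vM w 1 1
    have hs0 : ZeroAt X Y s := by
      have hε1 : (ε : ZMod N) * ε = 1 := by
        rcases List.mem_cons.mp hε with rfl | hε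
        · simp
        · rw [List.mem_singleton.mp hε]; simp
      have cA := congrArg (Int.cast (R := ZMod N)) hsA
      have cB := congrArg (Int.cast (R := ZMod N)) hsB
      push_cast at cA cB
      simp only [ZeroAt] at hr0 ⊢
      have h2 : (q : ZMod N) * (ε * ((ra s : ZMod N) * X + (rb s : ZMod N) * Y)) = 0 := by
        linear_combination hr0 + (ra r : ZMod N) * e0 + (rb r : ZMod N) * e1 -
          (q : ZMod N) * X * cA - (q : ZMod N) * Y * cB
      rw [hq.mul_right_eq_zero] at h2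
      linear_combination (ε : ZMod N) * h2 - ((ra s : ZMod N) * X + (rb s : ZMod N) * Y) * hε1
    obtain ⟨α, -, β, -, hαβ⟩ := coprime_ok r hr
    have hab := congrArg (Int.cast (R := ZMod N)) hαβ
    push_cast at hab
    simp only [ZeroAt] at hr0
    have hX : X = (-(β : ZMod N) * X + α * Y) * (-rb r) := by
      linear_combination -X * hab + (α : ZMod N) * hr0
    have hY : Y = (-(β : ZMod N) * X + α * Y) * ra r := by
      linear_combination -Y * hab + (β : ZMod N) * hr0
    rcases hfix (hS s hs hs0) with ⟨h1, h2⟩ | ⟨h1, h2⟩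
    all_goals
      have c1 := congrArg (Int.cast (R := ZMod N)) h1
      have c2 := congrArg (Int.cast (R := ZMod N)) h2
      push_cast at c1 c2
    · refine Or.inl ⟨?_, ?_⟩ <;> push_cast
      · linear_combination e0 - (q : ZMod N) * (A : ZMod N) * hX - (q : ZMod N) * (B : ZMod N) * hY -
          (q : ZMod N) * (-(β : ZMod N) * X + α * Y) * c1 + (q : ZMod N) * hX
      · linear_combination e1 - (q : ZMod N) * (C : ZMod N) * hX - (q : ZMod N) * (D : ZMod N) * hY -
          (q : ZMod N) * (-(β : ZMod N) * X + α * Y) * c2 + (q : ZMod N) * hY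
    · refine Or.inr ⟨?_, ?_⟩ <;> push_cast
      · linear_combination -e0 + (q : ZMod N) * (A : ZMod N) * hX + (q : ZMod N) * (B : ZMod N) * hY +
          (q : ZMod N) * (-(β : ZMod N) * X + α * Y) * c1 + (q : ZMod N) * hX
      · linear_combination -e1 + (q : ZMod N) * (C : ZMod N) * hX + (q : ZMod N) * (D : ZMod N) * hY +
          (q : ZMod N) * (-(β : ZMod N) * X + α * Y) * c2 + (q : ZMod N) * hY
  · push Not at hS
    obtain ⟨s, hs, hs0, hsr⟩ := hS
    have hk := kills_natAbs (kills_det hr0 hs0)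
    have hdet : ∀ {k : ℕ}, Kills X Y (k : ℤ) → Nat.Prime k → ∀ t ∈ posR, ∀ u ∈ posR, ZeroAt X Y t →
        ZeroAt X Y u → (k : ℤ) ∣ rdet t u := by
      intro k hk hkp t _ u _ ht hu
      by_contra hnd
      exact hne (kills_coprime ((Nat.prime_iff_prime_int.mp hkp).coprime_iff_not_dvd.mpr hnd) hk
        (kills_det ht hu))
    rcases det_ok r hr s hs with h | h
    · exact absurd h.symm hsr
    simp only [List.mem_cons, List.not_mem_nil, or_false] at h
    rcases h with h | h | h
    · rw [h] at hk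
      exact absurd (by simpa [Kills] using hk) hne
    · rw [h] at hk
      obtain ⟨P, hP, hPt⟩ := det_two_ok r hr s hs h
      exact Or.inr (Or.inl ⟨by simpa using hk, P, hP, fun t ht ht0 => hPt t ht
        ⟨by simpa using hdet hk Nat.prime_two r hr t ht hr0 ht0,
         by simpa using hdet hk Nat.prime_two s hs t ht hs0 ht0⟩⟩)
    · rw [h] at hk
      exact Or.inr (Or.inr ⟨by simpa using hk, fun t ht ht0 => det_three_ok r hr s hs h t ht
        (by simpa using hdet hk Nat.prime_three r hr t ht hr0 ht0)⟩)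

end Kill

end CfsgLib.Chev.G2Spec
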