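import Cfsg.Agent.Chev.G2Spec.Semisimple
import Cfsg.Agent.Chev.G2Spec.Weights
import Cfsg.Agent.Chev.HomocyclicSylow
import Cfsg.Agent.S1055
import Mathlib.FieldTheory.SplittingField.Construction
import Mathlib.FieldTheory.Finite.Basic

/-!
The orders of the elements of `G₂(q)` divide a short list of numbers.
-/

set_option autoImplicit false
set_option linter.style.haveILetI false

namespace CfsgLib.Chev.G2Spec

open Cfsg.Lie Matrix

/-- Unitriangular for a grading. -/
def Lev {K : Type*} [Zero K] [One K] (d : Fin 7 → ℕ) (M : Matrix (Fin 7) (Fin 7) K) : Prop :=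
  ∀ i j, ¬ d i < d j → M i j = if i = j then 1 else 0

/-- The grading check. -/
def chkLev (S : List ℕ) (d : Fin 7 → ℕ) : Bool :=
  (List.finRange 7).all (fun i => decide (d i < 3)) &&
    S.all fun r => (entR r).all fun e => decide (d e.1 < d e.2.1)

/-- Gradings for the root sets that occur. -/
def levTbl : List (List ℕ × List ℕ) :=
  [([7, 11], [0, 1, 0, 1, 2, 1, 2]), ([8, 10], [0, 0, 1, 1, 1, 2, 2]), ([6, 9], [0, 0, 1, 1, 1, 2, 2]),
    ([6, 10, 11], [0, 0, 1, 0, 1, 2, 2])]

theorem lev_tbl : ∀ P ∈ levTbl, chkLev P.1 (fun i => P.2.getD i.val 0) = true := by decide +kernel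

theorem orth_tbl : ∀ P ∈ orthPairs, ∃ Q ∈ levTbl, Q.1 = P := by decide +kernel

theorem prime_pow_ge {p : ℕ} (hp : 2 ≤ p) : 7 ≤ p ^ 3 :=
  le_trans (by norm_num) (Nat.pow_le_pow_left hp 3)

variable {K : Type*} [Field K] [Finite K]

omit [Finite K] in
theorem lev_mul {d : Fin 7 → ℕ} {M N : Matrix (Fin 7) (Fin 7) K} (hM : Lev d M) (hN : Lev d N) :
    Lev d (M * N) := by
  intro i j hij
  rw [Matrix.mul_apply, Finset.sum_eq_single i (fun l _ hl => ?_) (by simp), hM i i (lt_irrefl _),
    if_pos rfl, one_mul, hN i j hij]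
  by_cases h : d i < d l
  · have h2 : ¬ d l < d j := by omega
    have h3 : l ≠ j := fun e => hij (e ▸ h)
    rw [hN l j h2, if_neg h3, mul_zero]
  · rw [hM i l h, if_neg (Ne.symm hl), zero_mul]

theorem lev_exp {p : ℕ} [Fact p.Prime] [CharP K p] {S : List ℕ} {d : Fin 7 → ℕ}
    (hd : chkLev S d = true) {T : Set ℕ} (hT : ∀ r ∈ T, r ∈ S) {u : chevG2.group K}
    (hu : (u : GL chevG2.Idx K) ∈ good_G2.US K T) (hinj : Function.Injective (rho K)) {e : ℕ}
    (he : 3 ≤ p ^ e) : u ^ p ^ e = 1 := by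
  simp only [chkLev, Bool.and_eq_true, List.all_eq_true, decide_eq_true_eq, List.mem_finRange,
    true_implies] at hd
  obtain ⟨hd3, hde⟩ := hd
  have hgen : ∀ r ∈ T, ∀ t : K, Lev d (xm r t) := by
    intro r hr t i j hij
    simp only [xm, Matrix.of_apply, add_eq_left]
    refine List.sum_eq_zero fun x hx => ?_
    obtain ⟨z, hz, rfl⟩ := List.mem_map.mp hx
    rw [if_neg]
    rintro ⟨rfl, rfl⟩
    exact hij (hde r (hT r hr) z hz)
  have hlev : Lev d (rho K u : Matrix (Fin 7) (Fin 7) K) := by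
    have hu' : u ∈ Subgroup.closure {x : chevG2.group K | ∃ r ∈ T, ∃ t, x = xe r t} := by
      have : good_G2.US K T ≤
          (Subgroup.closure {x : chevG2.group K | ∃ r ∈ T, ∃ t, x = xe r t}).map
            (chevG2.group K).subtype := by
        rw [Tab.Good.US, Subgroup.closure_le]
        rintro _ ⟨r, hr, t, rfl⟩
        exact ⟨xe r t, Subgroup.subset_closure ⟨r, hr, t, rfl⟩, rfl⟩
      obtain ⟨x, hx, ex⟩ := this hu
      rwa [← show x = u from Subtype.ext ex]
    clear hu
    induction hu' using Subgroup.closure_induction'' with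
    | mem x hx =>
      obtain ⟨r, hr, t, rfl⟩ := hx
      rw [rho_x, coe_xg]; exact hgen r hr t
    | inv_mem x hx =>
      obtain ⟨r, hr, t, rfl⟩ := hx
      rw [show (xe r t)⁻¹ = xe r (-t) from Subtype.ext (good_G2.full.x_inv r t), rho_x, coe_xg]
      exact hgen r hr (-t)
    | one => intro i j _; simp [Matrix.one_apply]
    | mul x y _ _ hx hy => rw [map_mul, Units.val_mul]; exact lev_mul hx hy
  set M : Matrix (Fin 7) (Fin 7) K := ↑(rho K u) with hMdef
  have hstep : ∀ (k : ℕ) (i j : Fin 7), ((M - 1) ^ k) i j ≠ 0 → d i + k ≤ d j := by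
    intro k
    induction k with
    | zero =>
      intro i j h
      by_cases hij : i = j
      · subst hij; simp
      · simp [hij] at h
    | succ k ih =>
      intro i j h
      rw [pow_succ, Matrix.mul_apply] at h
      obtain ⟨l, -, hl⟩ := Finset.exists_ne_zero_of_sum_ne_zero h
      have h1 := ih i l (left_ne_zero_of_mul hl)
      have h2 : d l < d j := by
        by_contra h2
        refine right_ne_zero_of_mul hl ?_
        rw [Matrix.sub_apply, hlev l j h2, Matrix.one_apply, sub_self]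
      omega
  have h3 : (M - 1) ^ 3 = 0 := by
    ext i j
    by_contra h
    have := hstep 3 i j h
    have := hd3 j
    omega
  refine hinj (Units.ext ?_)
  rw [map_pow, map_one, Units.val_pow_eq_pow_val, Units.val_one, ← hMdef]
  have h4 : (M - 1) ^ p ^ e = 0 := pow_eq_zero_of_le he h3
  rw [sub_pow_char_pow_of_commute (p := p) (h := Commute.one_right M), one_pow, sub_eq_zero] at h4
  exact h4

omit [Finite K] in
theorem exists_of_single {r : ℕ} {T : Set ℕ} (hT : ∀ t ∈ T, t = r) {u : chevG2.group K}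
    (hu : (u : GL chevG2.Idx K) ∈ good_G2.US K T) : ∃ t, u = xe r t := by
  have : ∀ g ∈ good_G2.US K T, ∃ t, g = good_G2.full.x r t := by
    intro g hg
    induction hg using Subgroup.closure_induction with
    | mem g hg =>
      obtain ⟨s, hs, t, rfl⟩ := hg
      exact ⟨t, by rw [hT s hs]⟩
    | one => exact ⟨0, (good_G2.full.x_zero r).symm⟩
    | mul a b _ _ ha hb =>
      obtain ⟨t, rfl⟩ := ha
      obtain ⟨t', rfl⟩ := hb
      exact ⟨t + t', good_G2.full.x_add r t t'⟩
    | inv a _ ha =>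
      obtain ⟨t, rfl⟩ := ha
      exact ⟨-t, good_G2.full.x_inv r t⟩
  obtain ⟨t, ht⟩ := this _ hu
  exact ⟨t, Subtype.ext ht⟩

omit [Finite K] in
theorem xe_pow (r : ℕ) (t : K) : ∀ n : ℕ, (xe r t) ^ n = xe r ((n : K) * t)
  | 0 => by
    refine Subtype.ext ?_
    rw [pow_zero, Nat.cast_zero, zero_mul]
    exact (good_G2.full.x_zero r).symm
  | n + 1 => by
    refine Subtype.ext ?_
    rw [pow_succ, xe_pow r t n]
    show good_G2.full.x r _ * good_G2.full.x r t = _
    rw [good_G2.full.x_add]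
    show good_G2.full.x r _ = good_G2.full.x r _
    congr 1
    push_cast
    ring

omit [Finite K] in
theorem xe_pow_p {p : ℕ} [CharP K p] (r : ℕ) (t : K) : (xe r t) ^ p = 1 := by
  rw [xe_pow, CharP.cast_eq_zero, zero_mul]
  exact Subtype.ext (good_G2.full.x_zero r)

variable {F : Type*} [Field F] [Fintype F]

theorem dvd_of_pow {G : Type*} [Group G] {t u : G} (h : Commute t u) {a b : ℕ} (ht : t ^ a = 1)
    (hu : u ^ b = 1) : orderOf (t * u) ∣ a * b := by
  refine orderOf_dvd_of_pow_eq_one ?_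
  rw [h.mul_pow, pow_mul, ht, one_pow, one_mul, mul_comm, pow_mul, hu, one_pow]

set_option maxHeartbeats 1600000 in
open Polynomial in
/-- The orders of the elements of `G₂(q)`. -/
theorem order_dvd {p a e : ℕ} [Fact p.Prime] [CharP F p] (ha : 1 ≤ a)
    (hF : Fintype.card F = p ^ a) (h3 : 3 ≤ Fintype.card F) (he : 7 ≤ p ^ e)
    (g : chevG2.group F) :
    orderOf g ∣ p ^ (2 * a) - 1 ∨ orderOf g ∣ p ^ (2 * a) + p ^ a + 1 ∨
      orderOf g ∣ p ^ (2 * a) - p ^ a + 1 ∨ orderOf g ∣ p * (p ^ a + 1) ∨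
      orderOf g ∣ p * (p ^ a - 1) ∨ orderOf g ∣ p ^ e ∨ (p = 2 ∧ orderOf g ∣ 12) := by
  classical
  have hp : p.Prime := Fact.out
  set q := p ^ a with hqdef
  have hq2 : p ^ (2 * a) = q * q := by rw [hqdef, ← pow_add, two_mul]
  rw [hq2]
  have hqp : p ∣ q := dvd_pow_self p (by omega)
  have htwo : p ≠ 2 → 2 ∣ q * q - 1 := fun h => by
    have ho : Odd q := (hp.odd_of_ne_two h).pow
    exact (Nat.Odd.sub_odd (ho.mul ho) odd_one).two_dvd
  by_cases hn2 : g ^ 2 = 1
  · have h2 := orderOf_dvd_of_pow_eq_one hn2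
    by_cases h : p = 2
    · refine Or.inr (Or.inr (Or.inr (Or.inr (Or.inr (Or.inl (h2.trans ?_))))))
      subst h
      exact dvd_pow_self 2 (by rintro rfl; simp at he)
    · exact Or.inl (h2.trans (htwo h))
  -- the large field
  set n := orderOf g with hndef
  let K := ((X : F[X]) ^ n - 1).SplittingField
  haveI : Fintype K := Fintype.ofFinite K
  haveI : CharP K p := charP_of_injective_algebraMap (algebraMap F K).injective p
  have hinj : Function.Injective (rho K) := by
    obtain ⟨x, hx⟩ : ∃ x : F, x ≠ 0 ∧ x ≠ 1 := by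
      obtain ⟨x, -, hx⟩ := Finset.exists_mem_notMem_of_card_lt_card (s := ({0, 1} : Finset F))
        (t := Finset.univ) (by rw [Finset.card_univ]; exact lt_of_le_of_lt Finset.card_le_two (by omega))
      simp only [Finset.mem_insert, Finset.mem_singleton, not_or] at hx
      exact ⟨x, hx⟩
    haveI := (Cfsg.Agent.S1055.result (F := K) ⟨algebraMap F K x,
      by simpa using hx.1, fun h => hx.2 ((algebraMap F K).injective (by rw [h, map_one]))⟩).1
    exact rho_injective fun H hH => hH.eq_bot_or_eq_top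
  let ι : chevG2.group F →* chevG2.group K :=
    ((Tab.glMap chevG2 (algebraMap F K)).comp (chevG2.group F).subtype).codRestrict _
      fun x => good_G2.glMap_group _ x.2
  have hι : Function.Injective ι := fun x y h =>
    Subtype.ext (Tab.glMap_injective _ (congrArg Subtype.val h))
  have hordg : orderOf (ι g) = n := orderOf_injective ι hι g
  by_cases hun : ∃ k, g ^ p ^ k = 1
  · obtain ⟨k, hk⟩ := hun
    refine Or.inr (Or.inr (Or.inr (Or.inr (Or.inr (Or.inl ?_)))))
    exact hordg ▸ pow_dvd_of_unip hinj (k := k) (g := ι g) (by rw [← map_pow, hk, map_one]) he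
  have hn0 : 0 < n := orderOf_pos g
  have hsplit : ((X : K[X]) ^ n - 1).Splits := by
    have := IsSplittingField.splits (L := K) ((X : F[X]) ^ n - 1)
    simpa using this
  obtain ⟨l, v, hv, hqv, hev⟩ := exists_isotropic (p := p) (g := ι g) hinj (by rw [hordg]; exact hsplit)
    (fun k hk => hun ⟨k, hι (by rw [map_pow, hk, map_one])⟩)
    (fun h => hn2 (hι (by rw [map_pow, h, map_one])))
  obtain ⟨y, hy⟩ := conj_into_borel hn0 ((congrArg (ι g ^ ·) hordg).symm.trans (pow_orderOf_eq_one (ι g))) hsplit hv hqv hev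
  -- the two parts
  obtain ⟨k, m, hpm, hnkm⟩ := Nat.exists_eq_pow_mul_and_not_dvd hn0.ne' p hp.ne_one
  have hcop : Nat.Coprime m (p ^ k) :=
    (Nat.Coprime.pow_left k (hp.coprime_iff_not_dvd.mpr hpm)).symm
  obtain ⟨b, hb1, hb2⟩ := Nat.chineseRemainder hcop 1 0
  set s := g ^ b with hsdef
  have hsm : s ^ m = 1 := by
    rw [hsdef, ← pow_mul, ← orderOf_dvd_iff_pow_eq_one, ← hndef, hnkm]
    exact Nat.mul_dvd_mul_right (Nat.modEq_zero_iff_dvd.mp hb2) m
  have hsu : (s⁻¹ * g) ^ p ^ k = 1 := by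
    have hc : Commute s⁻¹ g := ((Commute.refl g).pow_left b).inv_left
    rw [hc.mul_pow, inv_pow, inv_mul_eq_one, hsdef, ← pow_mul, pow_eq_pow_iff_modEq, ← hndef, hnkm,
      mul_comm b, mul_comm (p ^ k) m]
    have := hb1.mul_left' (c := p ^ k)
    rwa [mul_one, mul_comm _ m] at this
  set g' := y * ι g * y⁻¹ with hg'
  set s' := y * ι s * y⁻¹ with hs'
  have hs'g : s' = g' ^ b := by rw [hs', hg', conj_pow, hsdef, map_pow]
  have hsp : ¬ p ∣ orderOf s' := fun hd => hpm (hd.trans (orderOf_dvd_of_pow_eq_one (by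
    rw [hs', conj_pow, ← map_pow, hsm, map_one, mul_one, mul_inv_cancel])))
  obtain ⟨z, c, u, ezs, ezg, hcu, hup, huS⟩ := borel_decomp (p := p) (k := k) hy
    (show InB s' by rw [hs'g]; exact pow_mem hy b)
    (by rw [hs'g]; exact (Commute.refl g').pow_left b) hsp (by
      rw [show s'⁻¹ * g' = y * ι (s⁻¹ * g) * y⁻¹ by rw [hs', hg', map_mul, map_inv]; group,
        conj_pow, ← map_pow, hsu, map_one, mul_one, mul_inv_cancel])
  have hng : n = orderOf (te c * u) := by
    rw [← ezg]
    refine hordg.symm.trans ?_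
    exact (orderOf_injective (MulAut.conj (z * y)).toMonoidHom (MulEquiv.injective _) (ι g)).symm.trans
      (congrArg orderOf (show z * y * ι g * (z * y)⁻¹ = z * g' * z⁻¹ by rw [hg']; group))
  -- the Frobenius map
  let σ : K →+* K := (FiniteField.frobeniusAlgHom F K).toRingHom
  have hσ : ∀ x : K, σ x = x ^ q := fun x => by
    rw [← hF]; exact FiniteField.frobeniusAlgHom_apply F K x
  let σG : chevG2.group K →* chevG2.group K :=
    ((Tab.glMap chevG2 σ).comp (chevG2.group K).subtype).codRestrict _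
      fun x => good_G2.glMap_group _ x.2
  have hσι : ∀ x, σG (ι x) = ι x := fun x => Subtype.ext (by
    show Tab.glMap chevG2 σ (Tab.glMap chevG2 (algebraMap F K) (x : GL chevG2.Idx F)) = _
    rw [Tab.glMap_comp]
    refine congrArg (fun f => Tab.glMap chevG2 f (x : GL chevG2.Idx F)) (RingHom.ext fun t => ?_)
    rw [RingHom.comp_apply, hσ, ← map_pow, ← hF, FiniteField.pow_card])
  have hσc : σG (te c) = te (c ^ q) := Subtype.ext (by
    show Tab.glMap chevG2 σ (G2Data.tab.hT K c) = G2Data.tab.hT K (c ^ q)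
    rw [good_G2.glMap_hT]
    congr 1
    funext i
    refine Units.ext ?_
    simp [hσ])
  obtain ⟨Y, hYdef⟩ : ∃ Y, Y = z * y := ⟨_, rfl⟩
  have hY : Y * ι s * Y⁻¹ = te c := by rw [hYdef, ← ezs, hs']; group
  have hY2 : σG Y * ι s * (σG Y)⁻¹ = te (c ^ q) := by
    rw [← hσc, ← hY, map_mul, map_mul, map_inv, hσι]
  have hfus : Y * (σG Y)⁻¹ * te (c ^ q) = te c * (Y * (σG Y)⁻¹) := by
    rw [← hY2, ← hY]; group
  obtain ⟨L, hL⟩ := good_G2.fusion_word (K := K) (Y * (σG Y)⁻¹).2
  have hLc := hL c (c ^ q) (by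
    have := congrArg (fun x : chevG2.group K => (x : GL chevG2.Idx K)) hfus
    simpa [coe_te] using this)
  -- logarithms
  obtain ⟨γ, hγ⟩ := IsCyclic.exists_generator (α := Kˣ)
  have hlog : ∀ i, ∃ v : ℤ, γ ^ v = c i := fun i => Subgroup.mem_zpowers_iff.mp (hγ (c i))
  choose w hw using hlog
  have hcw : c = Tab.Good.expo γ w := funext fun i => (hw i).symm
  have hcq : c ^ q = Tab.Good.expo γ ((q : ℤ) • w) := funext fun i => by
    rw [Pi.pow_apply, Tab.Good.expo, Pi.smul_apply, smul_eq_mul, mul_comm, _root_.zpow_mul,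
      zpow_natCast, hw i]
  rw [hcq, good_G2.nw_expo, mul_left_inj] at hLc
  have heq := good_G2.hT_injective (F := K) uni_G2 (hLc.trans (by rw [hcw]))
  rw [Tab.Good.expo_eq_iff] at heq
  obtain ⟨wd, hwd, hpw⟩ := words_cover L
  rw [good_G2.vM_congr_smith (S := G2Data.smith) G2Data.smith_ok (by decide +kernel) hpw] at heq
  haveI : NeZero chevG2.rank := ⟨by decide⟩
  set N := orderOf γ with hNdef
  set X : ZMod N := Int.cast (w (0 : Fin chevG2.rank))
  set Yc : ZMod N := Int.cast (w (1 : Fin chevG2.rank))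
  have hM : ∀ i : Fin chevG2.rank, (q : ZMod N) * ((G2Data.tab.vM wd i 0 : ZMod N) * X +
      (G2Data.tab.vM wd i 1 : ZMod N) * Yc) = (w i : ℤ) := by
    intro i
    have h := heq i
    rw [← ZMod.intCast_zmod_eq_zero_iff_dvd, Int.cast_sub, sub_eq_zero] at h
    rw [← h]
    show _ = ((((G2Data.tab.vM wd).mulVec ((q : ℤ) • w)) i : ℤ) : ZMod N)
    rw [show ((G2Data.tab.vM wd).mulVec ((q : ℤ) • w)) i =
      G2Data.tab.vM wd i 0 * ((q : ℤ) * w 0) + G2Data.tab.vM wd i 1 * ((q : ℤ) * w 1) from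
      Fin.sum_univ_two (f := fun j : Fin 2 => G2Data.tab.vM wd i j * ((q : ℤ) • w) j)]
    push_cast
    ring
  have e0 : ((q : ℤ) : ZMod N) * ((G2Data.tab.vM wd 0 0 : ZMod N) * X +
      (G2Data.tab.vM wd 0 1 : ZMod N) * Yc) = X := by rw [Int.cast_natCast]; exact hM 0
  have e1 : ((q : ℤ) : ZMod N) * ((G2Data.tab.vM wd 1 0 : ZMod N) * X +
      (G2Data.tab.vM wd 1 1 : ZMod N) * Yc) = Yc := by rw [Int.cast_natCast]; exact hM 1
  have hkill : ∀ k : ℕ, Kills X Yc (k : ℤ) → te c ^ k = 1 := by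
    intro k hk
    rw [← map_pow, show c ^ k = 1 from ?_, map_one]
    funext i
    rw [Pi.pow_apply, ← hw i, ← zpow_natCast, ← _root_.zpow_mul, Pi.one_apply,
      ← orderOf_dvd_iff_zpow_eq_one, ← ZMod.intCast_zmod_eq_zero_iff_dvd]
    obtain ⟨k1, k2⟩ := hk
    rcases (show ∀ i : Fin 2, i = 0 ∨ i = 1 by decide) i with rfl | rfl
    · push_cast at k1 ⊢; rw [mul_comm]; exact k1
    · push_cast at k2 ⊢; rw [mul_comm]; exact k2
  have hchi : ∀ r, G2Data.tab.chi (F := K) r c = 1 → ZeroAt X Yc r := by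
    intro r hr
    rw [hcw, Tab.Good.chi_expo, ← orderOf_dvd_iff_zpow_eq_one,
      ← ZMod.intCast_zmod_eq_zero_iff_dvd, show G2Data.tab.wrow r ⬝ᵥ w =
        ra r * w 0 + rb r * w 1 from Fin.sum_univ_two (f := fun j : Fin 2 => G2Data.tab.wrow r j * w j)]
      at hr
    unfold ZeroAt
    push_cast at hr
    exact hr
  have hcast : ∀ {k : ℕ} {j : ℤ}, (k : ℤ) = j → Kills X Yc j → te c ^ k = 1 :=
    fun h hk => hkill _ (h ▸ hk)
  have h1q : 1 ≤ q := Nat.one_le_pow _ _ hp.pos
  have h1qq : q ≤ q * q := Nat.le_mul_self q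
  rw [hng]
  by_cases hX : X = 0 ∧ Yc = 0
  · exfalso
    have h1 : te c = (1 : chevG2.group K) := by
      simpa using hkill 1 ⟨by simp [hX.1], by simp [hX.2]⟩
    exact hun ⟨k, by
      rw [← orderOf_dvd_iff_pow_eq_one, ← hndef, hng, h1, one_mul]
      exact orderOf_dvd_of_pow_eq_one hup⟩
  by_cases hR : ∃ r, Tab.IsPos chevG2 r ∧ G2Data.tab.chi (F := K) r c = 1
  swap
  · -- a regular element of a torus
    obtain ⟨t, hu⟩ := exists_of_single (r := 6) (fun t ht => (hR ⟨t, ht⟩).elim) huS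
    have hu1 : u = 1 := by
      have hsub : good_G2.US K {r | Tab.IsPos chevG2 r ∧ G2Data.tab.chi (F := K) r c = 1} ≤ ⊥ := by
        rw [Tab.Good.US, Subgroup.closure_le]
        rintro _ ⟨r, hr, t, rfl⟩
        exact (hR ⟨r, hr⟩).elim
      exact Subtype.ext (Subgroup.mem_bot.mp (hsub huS))
    rw [hu1, mul_one]
    rcases kills_tori hwd e0 e1 with h | h | h
    · refine Or.inl (orderOf_dvd_of_pow_eq_one (hcast ?_ h))
      rw [Nat.cast_sub (by nlinarith)]; push_cast; ring
    · refine Or.inr (Or.inl (orderOf_dvd_of_pow_eq_one (hcast ?_ h)))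
      push_cast; ring
    · refine Or.inr (Or.inr (Or.inl (orderOf_dvd_of_pow_eq_one (hcast ?_ h))))
      rw [Nat.cast_add, Nat.cast_sub h1qq]; push_cast; ring
  obtain ⟨r, hrp, hr⟩ := hR
  have hqu : IsUnit ((q : ℤ) : ZMod N) := by
    have hN : N + 1 = Fintype.card K := by
      rw [hNdef, orderOf_eq_card_of_forall_mem_zpowers hγ, Nat.card_eq_fintype_card,
        Fintype.card_units]
      have := Fintype.card_pos (α := K)
      omega
    obtain ⟨d, hd⟩ : q ∣ Fintype.card K := by
      rw [Module.card_eq_pow_finrank (K := F) (V := K), hF]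
      exact dvd_pow_self _ (Module.finrank_pos).ne'
    refine IsUnit.of_mul_eq_one (d : ZMod N) ?_
    have := congrArg (Nat.cast (R := ZMod N)) (hN.trans hd)
    push_cast at this
    rw [ZMod.natCast_self, zero_add] at this
    push_cast
    exact this.symm
  rcases kills_cases hwd e0 e1 hqu hX (mem_posR hrp) (hchi r hr) with
    ⟨hS, h⟩ | ⟨h, P, hP, hS⟩ | ⟨h, hS⟩
  · -- one root
    obtain ⟨t, rfl⟩ := exists_of_single (r := r) (fun t ht => hS t (mem_posR ht.1) (hchi t ht.2)) huS
    rcases h with h | h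
    · refine Or.inr (Or.inr (Or.inr (Or.inr (Or.inl ?_))))
      rw [mul_comm p]
      exact dvd_of_pow hcu (hcast (by rw [Nat.cast_sub h1q]; push_cast; ring) h) (xe_pow_p r t)
    · refine Or.inr (Or.inr (Or.inr (Or.inl ?_)))
      rw [mul_comm p]
      exact dvd_of_pow hcu (hcast (by push_cast; ring) h) (xe_pow_p r t)
  · -- two orthogonal roots
    have h2 := hkill 2 (by simpa using h)
    obtain ⟨Q, hQ, rfl⟩ := orth_tbl P hP
    have hp2 : p ≠ 2 := by
      rintro rfl
      refine hsp (?_)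
      have hc1 : orderOf (te c : chevG2.group K) ∣ 2 := orderOf_dvd_of_pow_eq_one h2
      have hos : orderOf s' = orderOf (te c : chevG2.group K) := by
        rw [← ezs]
        exact (orderOf_injective (MulAut.conj z).toMonoidHom (MulEquiv.injective _) s').symm
      rw [hos]
      rcases (Nat.dvd_prime Nat.prime_two).mp hc1 with h' | h'
      · exfalso
        rw [orderOf_eq_one_iff] at h'
        exact hun ⟨k, by
          rw [← orderOf_dvd_iff_pow_eq_one, ← hndef, hng, h', one_mul]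
          exact orderOf_dvd_of_pow_eq_one hup⟩
      · rw [h']
    have hu := lev_exp (p := p) (lev_tbl Q hQ) (fun t ht => hS t (mem_posR ht.1) (hchi t ht.2))
      huS hinj (e := 1) (by have := hp.two_le; simp; omega)
    rw [pow_one] at hu
    refine Or.inr (Or.inr (Or.inr (Or.inl ?_)))
    refine (dvd_of_pow hcu h2 hu).trans ?_
    rw [mul_comm 2 p]
    refine Nat.mul_dvd_mul_left p ?_
    exact ((hp.odd_of_ne_two hp2).pow.add_odd odd_one).two_dvd
  · -- three long roots
    have h3' := hkill 3 (by simpa using h)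
    by_cases hp2 : p = 2
    · subst hp2
      refine Or.inr (Or.inr (Or.inr (Or.inr (Or.inr (Or.inr ⟨rfl, ?_⟩)))))
      have hu := lev_exp (p := 2) (lev_tbl ([6, 10, 11], [0, 0, 1, 0, 1, 2, 2]) (by decide))
        (fun t ht => hS t (mem_posR ht.1) (hchi t ht.2)) huS hinj (e := 2) (by norm_num)
      exact dvd_of_pow hcu h3' hu
    · have hu := lev_exp (p := p) (lev_tbl ([6, 10, 11], [0, 0, 1, 0, 1, 2, 2]) (by decide))
        (fun t ht => hS t (mem_posR ht.1) (hchi t ht.2)) huS hinj (e := 1)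
        (by have := hp.two_le; simp; omega)
      rw [pow_one] at hu
      have hd := dvd_of_pow hcu h3' hu
      by_cases h3d : p = 3
      · subst h3d
        refine Or.inr (Or.inr (Or.inr (Or.inr (Or.inr (Or.inl (hd.trans ?_))))))
        have : 2 ≤ e := by
          by_contra hlt
          interval_cases e <;> simp at he
        exact (show 3 * 3 = 3 ^ 2 by norm_num) ▸ pow_dvd_pow 3 this
      · have hq3 : ¬ 3 ∣ q := fun hd' =>
          h3d ((Nat.prime_dvd_prime_iff_eq Nat.prime_three hp).mp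
            (Nat.prime_three.dvd_of_dvd_pow hd')).symm
        rcases (show 3 ∣ q + 1 ∨ 3 ∣ q - 1 by omega) with h' | h'
        · refine Or.inr (Or.inr (Or.inr (Or.inl (hd.trans ?_))))
          rw [mul_comm 3 p]; exact Nat.mul_dvd_mul_left p h'
        · refine Or.inr (Or.inr (Or.inr (Or.inr (Or.inl (hd.trans ?_)))))
          rw [mul_comm 3 p]; exact Nat.mul_dvd_mul_left p h'

end CfsgLib.Chev.G2Spec
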