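import Cfsg.Agent.Chev.G2Spec.Torus
import Mathlib.LinearAlgebra.Eigenspace.Minpoly
import Mathlib.LinearAlgebra.Matrix.Charpoly.Minpoly

/-!
Eigenvectors of matrices of finite order, isotropic eigenvectors in the seven-dimensional
representation, and orders of unipotent elements.
-/

set_option autoImplicit false

namespace CfsgLib.Chev.G2Spec

open Cfsg.Lie Matrix Polynomial

variable {K : Type*} [Field K] {n : ℕ}

theorem minpoly_dvd_X_pow_sub {M : Matrix (Fin n) (Fin n) K} {N : ℕ} (hM : M ^ N = 1) :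
    minpoly K M ∣ X ^ N - 1 := by
  apply minpoly.dvd
  simp [hM]

theorem minpoly_splits {M : Matrix (Fin n) (Fin n) K} {N : ℕ} (hN : 0 < N) (hM : M ^ N = 1)
    (hs : ((X : K[X]) ^ N - 1).Splits) : (minpoly K M).Splits :=
  hs.of_dvd (X_pow_sub_C_ne_zero hN (1 : K)) (minpoly_dvd_X_pow_sub hM)

theorem eig_of_root {M : Matrix (Fin n) (Fin n) K} {l : K} (h : (minpoly K M).IsRoot l) :
    ∃ v : Fin n → K, v ≠ 0 ∧ M *ᵥ v = l • v := by
  rw [← minpoly_toLin'] at h
  obtain ⟨v, hv⟩ := (Module.End.hasEigenvalue_of_isRoot h).exists_hasEigenvector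
  exact ⟨v, hv.2, by simpa using hv.apply_eq_smul⟩

theorem exists_eig [NeZero n] {M : Matrix (Fin n) (Fin n) K} {N : ℕ} (hN : 0 < N) (hM : M ^ N = 1)
    (hs : ((X : K[X]) ^ N - 1).Splits) : ∃ (l : K) (v : Fin n → K), v ≠ 0 ∧ M *ᵥ v = l • v := by
  obtain ⟨l, hl⟩ := (minpoly_splits hN hM hs).exists_eval_eq_zero
    (ne_of_gt (minpoly.degree_pos (Matrix.isIntegral M)))
  exact ⟨l, eig_of_root hl⟩

theorem aeval_pow_eq_zero {M : Matrix (Fin n) (Fin n) K} (hs : (minpoly K M).Splits) (P : K[X])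
    (hr : ∀ l, (minpoly K M).IsRoot l → P.IsRoot l) : aeval M P ^ n = 0 := by
  have hm := minpoly.monic (Matrix.isIntegral M)
  have hcard : (minpoly K M).roots.card ≤ n := by
    refine le_trans (card_roots' _) (le_trans (natDegree_le_of_dvd (minpoly_dvd_charpoly M)
      (charpoly_monic M).ne_zero) (le_of_eq ?_))
    rw [charpoly_natDegree_eq_dim, Fintype.card_fin]
  have hd : minpoly K M ∣ P ^ n := by
    rw [hs.eq_prod_roots_of_monic hm]
    refine dvd_trans ?_ (pow_dvd_pow P hcard)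
    rw [← Multiset.prod_replicate, ← Multiset.map_const']
    exact Multiset.prod_dvd_prod_of_dvd _ _ fun l hl =>
      dvd_iff_isRoot.mpr (hr l (mem_roots'.mp hl).2)
  obtain ⟨R, hR⟩ := hd
  rw [← map_pow, hR, map_mul, minpoly.aeval, zero_mul]

theorem unip_pow {M : Matrix (Fin n) (Fin n) K} [NeZero n] {p : ℕ} [Fact p.Prime] [CharP K p]
    {k e : ℕ} (hM : M ^ p ^ k = 1) (he : n ≤ p ^ e) : M ^ p ^ e = 1 := by
  have hnil : (M - 1) ^ p ^ k = 0 := by
    rw [sub_pow_char_pow_of_commute (p := p) (h := Commute.one_right M), hM, one_pow, sub_self]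
  have h1 : (M - 1) ^ n = 0 := by
    have hs : (minpoly K (M - 1)).Splits :=
      (Splits.X_pow (p ^ k)).of_dvd (pow_ne_zero _ X_ne_zero) (minpoly.dvd _ _ (by simp [hnil]))
    have := aeval_pow_eq_zero hs X fun l hl => by
      have h := hl.dvd (minpoly.dvd K (M - 1) (p := X ^ p ^ k) (by simp [hnil]))
      rw [IsRoot.def, eval_X]
      exact eq_zero_of_pow_eq_zero (n := p ^ k) (by simpa using h)
    simpa using this
  have h2 : (M - 1) ^ p ^ e = 0 := pow_eq_zero_of_le he h1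
  rw [sub_pow_char_pow_of_commute (p := p) (h := Commute.one_right M), one_pow, sub_eq_zero] at h2
  exact h2

section Rho

variable {F : Type*} [Field F] [Finite F]

theorem rho_injective (h : ∀ H : Subgroup (chevG2.group F), H.Normal → H = ⊥ ∨ H = ⊤) :
    Function.Injective (rho F) := by
  rw [← MonoidHom.ker_eq_bot_iff]
  refine (h _ inferInstance).resolve_right fun e => ?_
  have h0 : xe 11 (1 : F) ∈ (rho F).ker := e ▸ Subgroup.mem_top _
  rw [MonoidHom.mem_ker, rho_x] at h0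
  have := congrFun (congrFun (congrArg (fun g : GL (Fin 7) F => (g : Matrix (Fin 7) (Fin 7) F)) h0)
    0) 5
  simp [xm, entR, ents] at this

variable {g : chevG2.group F}

theorem pow_dvd_of_unip {p : ℕ} [Fact p.Prime] [CharP F p] (hinj : Function.Injective (rho F))
    {k e : ℕ} (hg : g ^ p ^ k = 1) (he : 7 ≤ p ^ e) : orderOf g ∣ p ^ e := by
  refine orderOf_dvd_of_pow_eq_one (hinj (Units.ext ?_))
  rw [map_pow, map_one, Units.val_pow_eq_pow_val, Units.val_one]
  refine unip_pow (k := k) ?_ he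
  rw [← Units.val_pow_eq_pow_val, ← map_pow, hg, map_one, Units.val_one]

/-- An isotropic eigenvector. -/
theorem exists_isotropic {p : ℕ} [Fact p.Prime] [CharP F p] (hinj : Function.Injective (rho F))
    (hs : ((X : F[X]) ^ orderOf g - 1).Splits) (hnp : ∀ k, g ^ p ^ k ≠ 1) (hn2 : g ^ 2 ≠ 1) :
    ∃ (l : F) (v : Fin 7 → F), v ≠ 0 ∧ qf v = 0 ∧
      (rho F g : Matrix (Fin 7) (Fin 7) F) *ᵥ v = l • v := by
  classical
  set M : Matrix (Fin 7) (Fin 7) F := ((rho F g : GL (Fin 7) F) : Matrix (Fin 7) (Fin 7) F) with hMdef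
  have hpow : ∀ j : ℕ, M ^ j = ((rho F (g ^ j) : GL (Fin 7) F) : Matrix (Fin 7) (Fin 7) F) :=
    fun j => by rw [map_pow, Units.val_pow_eq_pow_val]
  have hMN : M ^ orderOf g = 1 := by rw [hpow, pow_orderOf_eq_one, map_one, Units.val_one]
  have hsplit := minpoly_splits (orderOf_pos g) hMN hs
  by_cases hall : ∀ l, (minpoly F M).IsRoot l → l ^ 2 = 1
  swap
  · push Not at hall
    obtain ⟨l, hl, hl2⟩ := hall
    obtain ⟨v, hv, e⟩ := eig_of_root hl
    refine ⟨l, v, hv, ?_, e⟩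
    have := qf_rho g v
    rw [← hMdef, e, qf_smul] at this
    by_contra hq
    exact hl2 (mul_right_cancel₀ hq (by rw [this, one_mul]))
  -- all eigenvalues are signs
  have h7 : (M ^ 2 - 1) ^ 7 = 0 := by
    have := aeval_pow_eq_zero hsplit (X ^ 2 - 1) fun l hl => by simp [hall l hl]
    simpa using this
  obtain ⟨k, hk⟩ : ∃ k, 7 ≤ p ^ k := ⟨7, le_of_lt (lt_of_lt_of_le (by norm_num : 7 < 2 ^ 7)
    (Nat.pow_le_pow_left (Fact.out : p.Prime).two_le 7))⟩
  have hgp : g ^ (2 * p ^ k) = 1 := by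
    refine hinj (Units.ext ?_)
    rw [map_one, Units.val_one, ← hpow, pow_mul]
    have h2 : (M ^ 2 - 1) ^ p ^ k = 0 := pow_eq_zero_of_le hk h7
    rw [sub_pow_char_pow_of_commute (p := p) (h := Commute.one_right (M ^ 2)), one_pow, sub_eq_zero] at h2
    exact h2
  have hp2 : p ≠ 2 := fun h => by
    subst h
    exact hnp (k + 1) (by rw [pow_succ', hgp])
  have hodd : Odd (p ^ k) := ((Fact.out : p.Prime).odd_of_ne_two hp2).pow
  -- `t = g ^ (p ^ k)` is an involution commuting with `g`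
  set T : Matrix (Fin 7) (Fin 7) F := M ^ p ^ k with hT
  have hT2 : T * T = 1 := by
    rw [hT, ← pow_add, ← two_mul, hpow, hgp, map_one, Units.val_one]
  have htwo : (2 : F) ≠ 0 := Ring.two_ne_zero (fun h => hp2 ((CharP.eq F ‹_› (h ▸ ringChar.charP F))))
  set N : Matrix (Fin 7) (Fin 7) F := M ^ 2 - 1 with hN
  have hNne : N ≠ 0 := fun h => hn2 (hinj (Units.ext (by
    rw [map_one, Units.val_one, ← hpow]; exact sub_eq_zero.mp h)))
  have hcomm : T * N = N * T := by
    rw [hT, hN, mul_sub, sub_mul, ← pow_add, ← pow_add, add_comm, mul_one, one_mul]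
  obtain ⟨y, ε, hy, hyN⟩ : ∃ (y : Fin 7 → F) (ε : F), T *ᵥ y = ε • y ∧ N *ᵥ y ≠ 0 := by
    by_contra hc
    push Not at hc
    refine hNne (Matrix.ext_of_mulVec_single fun b => ?_)
    set e : Fin 7 → F := Pi.single b 1
    have hp1 : T *ᵥ (e + T *ᵥ e) = (1 : F) • (e + T *ᵥ e) := by
      rw [mulVec_add, mulVec_mulVec, hT2, one_mulVec, one_smul, add_comm]
    have hm1 : T *ᵥ (e - T *ᵥ e) = (-1 : F) • (e - T *ᵥ e) := by
      rw [mulVec_sub, mulVec_mulVec, hT2, one_mulVec, neg_smul, one_smul, neg_sub]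
    have := congrArg₂ (· + ·) (hc _ _ hp1) (hc _ _ hm1)
    simp only [← mulVec_add, add_zero, add_add_sub_cancel] at this
    rw [← two_smul F e, mulVec_smul, smul_eq_zero] at this
    rw [this.resolve_left htwo, zero_mulVec]
  -- push `y` to the end of its chain
  have hex : ∃ j, N ^ j *ᵥ (N *ᵥ y) = 0 := ⟨7, by rw [h7, zero_mulVec]⟩
  obtain ⟨i, hi⟩ : ∃ i, Nat.find hex = i + 1 := ⟨Nat.find hex - 1, by
    have : Nat.find hex ≠ 0 := fun h => hyN (by
      have h' := Nat.find_spec hex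
      rwa [h, pow_zero, one_mulVec] at h')
    omega⟩
  set w := N ^ i *ᵥ y
  set v := N *ᵥ w with hv
  have hv0 : v ≠ 0 := by
    have := Nat.find_min hex (show i < Nat.find hex by omega)
    rwa [mulVec_mulVec, ← pow_succ, pow_succ', ← mulVec_mulVec] at this
  have hNv : N *ᵥ v = 0 := by
    have := Nat.find_spec hex
    rw [hi, mulVec_mulVec, ← pow_succ, pow_succ', pow_succ', ← mulVec_mulVec,
      ← mulVec_mulVec] at this
    exact this
  have hTv : T *ᵥ v = ε • v := by
    have hc' : T * (N * N ^ i) = N * N ^ i * T := by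
      rw [← pow_succ']; exact (Commute.pow_right (show Commute T N from hcomm) _).eq
    rw [hv, mulVec_mulVec, mulVec_mulVec, mulVec_mulVec, mul_assoc, hc',
      ← mulVec_mulVec, hy, mulVec_smul]
  have hM2 : M ^ 2 *ᵥ v = v := by
    rw [hN, sub_mulVec, one_mulVec, sub_eq_zero] at hNv
    exact hNv
  refine ⟨ε, v, hv0, ?_, ?_⟩
  · -- `B(v, v) = 0`
    have e1 : v = M ^ 2 *ᵥ w - w := by rw [hv, hN, sub_mulVec, one_mulVec]
    have e2 : bf v (M ^ 2 *ᵥ w) = bf v w := by
      conv_lhs => rw [← hM2, hpow]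
      exact bf_rho _ _ _
    have e3 : bf v v = 0 := by
      conv_lhs => arg 2; rw [e1]
      rw [bf_sub_right, e2, sub_self]
    rw [bf_self] at e3
    exact (mul_eq_zero.mp e3).resolve_left htwo
  · obtain ⟨j, hj⟩ := hodd
    have hj' : ∀ j, (M ^ 2) ^ j *ᵥ v = v := fun j => by
      induction j with
      | zero => simp
      | succ j ih => rw [pow_succ, ← mulVec_mulVec, hM2, ih]
    rw [← hTv, hT, hj, pow_add, pow_one, pow_mul, ((Commute.refl M).pow_left 2 |>.pow_left j).eq,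
      ← mulVec_mulVec, hj']

end Rho

end CfsgLib.Chev.G2Spec
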