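import Cfsg.Agent.Chev.G2Spec.Small

/-!
The lists of maximal element orders of `G₂(q)`.
-/

set_option autoImplicit false

namespace CfsgLib.Chev.G2Spec

open Cfsg.Lie

theorem max_eq_of_cover {S : Set ℕ} {L : Set ℕ} (hb : ∀ n ∈ S, ∃ x ∈ L, n ∣ x) (hL : L ⊆ S)
    (hanti : ∀ x ∈ L, ∀ y ∈ L, x ∣ y → x = y) :
    {n : ℕ | n ∈ S ∧ ∀ m ∈ S, n ∣ m → m = n} = L := by
  ext n
  constructor
  · rintro ⟨hn, hmax⟩
    obtain ⟨x, hx, hd⟩ := hb n hn
    rw [← hmax x (hL hx) hd]
    exact hx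
  · intro hn
    refine ⟨hL hn, fun m hm hd => ?_⟩
    obtain ⟨x, hx, hd'⟩ := hb m hm
    have e := hanti n hn x hx (hd.trans hd')
    exact Nat.dvd_antisymm (e ▸ hd') hd

theorem max_subset_of_cover {S : Set ℕ} {L : Set ℕ} (hb : ∀ n ∈ S, ∃ x ∈ L, n ∣ x) (hL : L ⊆ S) :
    {n : ℕ | n ∈ S ∧ ∀ m ∈ S, n ∣ m → m = n} ⊆ L := by
  rintro n ⟨hn, hmax⟩
  obtain ⟨x, hx, hd⟩ := hb n hn
  rw [← hmax x (hL hx) hd]
  exact hx

theorem eq_of_dvd_of_lt {u v : ℕ} (hd : u ∣ v) (hv : 0 < v) (h : v < 2 * u) : u = v := by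
  obtain ⟨k, rfl⟩ := hd
  have : k < 2 := by nlinarith
  interval_cases k <;> simp_all

/-- No member of the odd list divides another. -/
theorem antichain {p q : ℕ} (hp : p.Prime) (hp2 : p ≠ 2) (hpq : p ∣ q) (hq : 5 ≤ q) (hqo : Odd q) :
    ∀ x ∈ ({p * (q + 1), p * (q - 1), q * q - 1, q * q + q + 1, q * q - q + 1} : Set ℕ) ∪
        (if p = 3 ∨ p = 5 then ({p ^ 2} : Set ℕ) else ∅),
      ∀ y ∈ ({p * (q + 1), p * (q - 1), q * q - 1, q * q + q + 1, q * q - q + 1} : Set ℕ) ∪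
        (if p = 3 ∨ p = 5 then ({p ^ 2} : Set ℕ) else ∅), x ∣ y → x = y := by
  have hqq : q * 5 ≤ q * q := Nat.mul_le_mul_left q hq
  have np : ∀ {n : ℕ}, (∃ k, n = q * k + 1) ∨ (∃ k, n + 1 = q * k) → ¬ p ∣ n := by
    intro n hn hd
    rcases hn with ⟨k, rfl⟩ | ⟨k, hk⟩
    · exact hp.ne_one (Nat.dvd_one.mp ((Nat.dvd_add_right (hpq.mul_right k)).mp hd))
    · exact hp.ne_one (Nat.dvd_one.mp ((Nat.dvd_add_right hd).mp (hk ▸ hpq.mul_right k)))
  have pA : ¬ p ∣ q + 1 := np (Or.inl ⟨1, by ring⟩)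
  have pB : ¬ p ∣ q - 1 := np (Or.inr ⟨1, by omega⟩)
  have pC : ¬ p ∣ q * q - 1 := np (Or.inr ⟨q, by omega⟩)
  have pD : ¬ p ∣ q * q + q + 1 := np (Or.inl ⟨q + 1, by ring⟩)
  have pE : ¬ p ∣ q * q - q + 1 := np (Or.inl ⟨q - 1, by rw [Nat.mul_sub, mul_one]⟩)
  have cancelP : ∀ {n m : ℕ}, ¬ p ∣ n → n ∣ p * m → n ∣ m := fun h1 h2 =>
    (Nat.Coprime.symm (hp.coprime_iff_not_dvd.mpr h1)).dvd_of_dvd_mul_left h2
  have small : ∀ {n m : ℕ}, 0 < m → m < n → ¬ n ∣ m := fun hm hlt hd =>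
    absurd (Nat.le_of_dvd hm hd) (not_le.mpr hlt)
  have hp3 : 3 ≤ p := by have := hp.two_le; omega
  have hC : q * q - 1 = (q - 1) * (q + 1) := by
    obtain ⟨r, rfl⟩ : ∃ r, q = r + 1 := ⟨q - 1, by omega⟩
    simp; ring_nf; omega
  have notC1 : ¬ q * q - 1 ∣ q + 1 := small (by omega) (by omega)
  intro x hx y hy hd
  have hx' : x = p * (q + 1) ∨ x = p * (q - 1) ∨ x = q * q - 1 ∨ x = q * q + q + 1 ∨
      x = q * q - q + 1 ∨ x = p ^ 2 := by
    rcases hx with hx | hx
    · simp only [Set.mem_insert_iff, Set.mem_singleton_iff] at hx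
      tauto
    · split_ifs at hx with h
      · simp only [Set.mem_singleton_iff] at hx
        tauto
      · simp at hx
  have hy' : y = p * (q + 1) ∨ y = p * (q - 1) ∨ y = q * q - 1 ∨ y = q * q + q + 1 ∨
      y = q * q - q + 1 ∨ y = p ^ 2 := by
    rcases hy with hy | hy
    · simp only [Set.mem_insert_iff, Set.mem_singleton_iff] at hy
      tauto
    · split_ifs at hy with h
      · simp only [Set.mem_singleton_iff] at hy
        tauto
      · simp at hy
  clear hx hy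
  rcases hx' with rfl | rfl | rfl | rfl | rfl | rfl <;>
    rcases hy' with rfl | rfl | rfl | rfl | rfl | rfl
  any_goals rfl
  all_goals exfalso
  -- first: `p (q + 1)`
  · exact small (by omega) (show q - 1 < q + 1 by omega) ((Nat.mul_dvd_mul_iff_left hp.pos).mp hd)
  · exact pC (dvd_trans (dvd_mul_right _ _) hd)
  · exact pD (dvd_trans (dvd_mul_right _ _) hd)
  · exact pE (dvd_trans (dvd_mul_right _ _) hd)
  · rw [sq] at hd
    have h := (Nat.mul_dvd_mul_iff_left hp.pos).mp hd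
    rcases (Nat.dvd_prime hp).mp h with h' | h' <;> [omega; exact pA h'.symm.dvd]
  -- `p (q - 1)`
  · have h := (Nat.mul_dvd_mul_iff_left hp.pos).mp hd
    have : q - 1 ∣ 2 := by
      have := Nat.dvd_sub h (dvd_refl (q - 1))
      rwa [show q + 1 - (q - 1) = 2 by omega] at this
    exact small (by omega) (by omega) this
  · exact pC (dvd_trans (dvd_mul_right _ _) hd)
  · exact pD (dvd_trans (dvd_mul_right _ _) hd)
  · exact pE (dvd_trans (dvd_mul_right _ _) hd)
  · rw [sq] at hd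
    have h := (Nat.mul_dvd_mul_iff_left hp.pos).mp hd
    rcases (Nat.dvd_prime hp).mp h with h' | h' <;> [omega; exact pB h'.symm.dvd]
  -- `q² - 1`
  · exact notC1 (cancelP pC hd)
  · exact small (by omega) (by omega) (cancelP pC hd)
  · have := eq_of_dvd_of_lt hd (by omega) (by omega)
    omega
  · exact small (by omega) (by omega) hd
  · rw [sq] at hd
    have h := cancelP pC hd
    rw [← mul_one p] at h
    exact small (m := 1) (by omega) (by omega) (cancelP pC h)
  -- `q² + q + 1`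
  · exact small (by omega) (by omega) (cancelP pD hd)
  · exact small (by omega) (by omega) (cancelP pD hd)
  · exact small (by omega) (by omega) hd
  · exact small (by omega) (by omega) hd
  · rw [sq] at hd
    have h := cancelP pD hd
    rw [← mul_one p] at h
    exact small (m := 1) (by omega) (by omega) (cancelP pD h)
  -- `q² - q + 1`
  · exact small (by omega) (by omega) (cancelP pE hd)
  · exact small (by omega) (by omega) (cancelP pE hd)
  · have := eq_of_dvd_of_lt hd (by omega) (by omega)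
    omega
  · have := eq_of_dvd_of_lt hd (by omega) (by omega)
    omega
  · rw [sq] at hd
    have h := cancelP pE hd
    rw [← mul_one p] at h
    exact small (m := 1) (by omega) (by omega) (cancelP pE h)
  -- `p²`
  · rw [sq] at hd
    exact pA ((Nat.mul_dvd_mul_iff_left hp.pos).mp hd)
  · rw [sq] at hd
    exact pB ((Nat.mul_dvd_mul_iff_left hp.pos).mp hd)
  · exact pC (dvd_trans (dvd_pow_self p two_ne_zero) hd)
  · exact pD (dvd_trans (dvd_pow_self p two_ne_zero) hd)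
  · exact pE (dvd_trans (dvd_pow_self p two_ne_zero) hd)

end CfsgLib.Chev.G2Spec
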