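import Mathlib

/-!
Laurent polynomials in two letters with integer coefficients, as lists, for kernel computations.
-/

set_option autoImplicit false

namespace CfsgLib.Chev.G2Spec

/-- A Laurent polynomial in two letters. -/
abbrev Poly := List ((ℤ × ℤ) × ℤ)

namespace Poly

/-- Insert a term. -/
def ins (q : (ℤ × ℤ) × ℤ) : Poly → Poly
  | [] => [q]
  | p :: l => if q.1 = p.1 then (p.1, p.2 + q.2) :: l else p :: ins q l

/-- Collect the terms. -/
def norm (p : Poly) : Poly := p.foldr ins []

/-- All collected coefficients vanish. -/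
def isZero (p : Poly) : Bool := (norm p).all fun q => decide (q.2 = 0)

/-- The product. -/
def mul (p q : Poly) : Poly :=
  norm (p.flatMap fun a => q.map fun b => ((a.1.1 + b.1.1, a.1.2 + b.1.2), a.2 * b.2))

/-- The power. -/
def pow (p : Poly) : ℕ → Poly
  | 0 => [((0, 0), 1)]
  | n + 1 => mul p (pow p n)

/-- Multiply by an integer. -/
def smul (c : ℤ) (p : Poly) : Poly := p.map fun a => (a.1, c * a.2)

/-- The difference vanishes. -/
def eqv (p q : Poly) : Bool := isZero (p ++ smul (-1) q)

variable {K : Type*} [CommRing K] (t u : Kˣ)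

/-- The value of a term. -/
def tev (q : (ℤ × ℤ) × ℤ) : K := (q.2 : K) * ((t ^ q.1.1 * u ^ q.1.2 : Kˣ) : K)

/-- The value. -/
def ev (p : Poly) : K := (p.map (tev t u)).sum

@[simp] theorem ev_nil : ev t u [] = (0 : K) := rfl

@[simp] theorem ev_cons (q : (ℤ × ℤ) × ℤ) (p : Poly) : ev t u (q :: p) = tev t u q + ev t u p := rfl

@[simp] theorem ev_append (p q : Poly) : ev t u (p ++ q) = ev t u p + ev t u q := by
  simp [ev]

theorem ev_ins (q : (ℤ × ℤ) × ℤ) : ∀ p : Poly, ev t u (ins q p) = tev t u q + ev t u p
  | [] => by simp [ins]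
  | p :: l => by
    by_cases h : q.1 = p.1
    · rw [ins, if_pos h, ev_cons, ev_cons]
      simp only [tev, h, Int.cast_add]
      ring
    · rw [ins, if_neg h, ev_cons, ev_ins q l, ev_cons]
      ring

theorem ev_norm : ∀ p : Poly, ev t u (norm p) = ev t u p
  | [] => rfl
  | q :: l => by
    show ev t u (ins q (norm l)) = _
    rw [ev_ins, ev_norm l, ev_cons]

theorem ev_of_isZero {p : Poly} (h : isZero p = true) : ev t u p = (0 : K) := by
  rw [← ev_norm]
  simp only [isZero, List.all_eq_true, decide_eq_true_eq] at h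
  refine List.sum_eq_zero fun x hx => ?_
  obtain ⟨q, hq, rfl⟩ := List.mem_map.mp hx
  simp [tev, h q hq]

theorem tev_mul (a b : (ℤ × ℤ) × ℤ) :
    tev t u ((a.1.1 + b.1.1, a.1.2 + b.1.2), a.2 * b.2) = tev t u a * (tev t u b : K) := by
  simp only [tev, _root_.zpow_add, Units.val_mul, Int.cast_mul]
  ring

theorem ev_mul (p q : Poly) : ev t u (mul p q) = ev t u p * (ev t u q : K) := by
  rw [mul, ev_norm]
  induction p with
  | nil => simp
  | cons a l ih =>
    rw [List.flatMap_cons, ev_append, ih, ev_cons, add_mul]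
    congr 1
    simp only [ev, List.map_map, ← List.sum_map_mul_left]
    exact congrArg List.sum (List.map_congr_left fun b _ => tev_mul t u a b)

theorem ev_pow (p : Poly) : ∀ n, ev t u (pow p n) = (ev t u p : K) ^ n
  | 0 => by simp [pow, ev, tev]
  | n + 1 => by rw [pow, ev_mul, ev_pow p n, pow_succ']

theorem ev_smul (c : ℤ) (p : Poly) : ev t u (smul c p) = (c : K) * ev t u p := by
  simp only [ev, smul, List.map_map, ← List.sum_map_mul_left]
  refine congrArg List.sum (List.map_congr_left fun b _ => ?_)
  simp [tev, mul_assoc]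

theorem ev_eqv {p q : Poly} (h : eqv p q = true) : ev t u p = (ev t u q : K) := by
  have := ev_of_isZero t u h
  rw [ev_append, ev_smul] at this
  push_cast at this
  linear_combination this

/-- A monomial. -/
def mono (c i j : ℤ) : Poly := [((i, j), c)]

theorem ev_mono (c i j : ℤ) : ev t u (mono c i j) = (c : K) * ((t ^ i * u ^ j : Kˣ) : K) := by
  simp [mono, ev, tev]

end Poly

end CfsgLib.Chev.G2Spec
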