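import Cfsg.Agent.Chev.G2Spec.Poly
import Cfsg.Agent.Chev.SteinbergTorus
import Cfsg.Agent.Chev.SteinbergFinite
import Cfsg.Agent.Chev.SteinbergData
import Cfsg.Agent.Chev.GoodAll

/-!
The seven-dimensional representation of `G₂(F)`: the root matrices satisfy Steinberg's relations.
-/

set_option autoImplicit false

namespace CfsgLib.Chev.G2Spec

open Cfsg.Lie Matrix Tab

/-- An entry of a root matrix: row, column, degree, coefficient. -/
abbrev Ent := Fin 7 × Fin 7 × ℕ × ℤ

/-- The entries of the root matrices away from the identity. -/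
def ents : List (List Ent) :=
  [[(5, 0, 1, -1), (6, 1, 1, -1)],
    [(4, 0, 1, 1), (6, 2, 1, -1)],
    [(3, 0, 1, -1), (4, 1, 1, 1), (5, 2, 1, 1), (6, 3, 1, -2), (6, 0, 2, 1)],
    [(2, 0, 1, -1), (3, 1, 1, 1), (5, 3, 1, -2), (6, 4, 1, 1), (5, 1, 2, -1)],
    [(1, 0, 1, 1), (3, 2, 1, 1), (4, 3, 1, 2), (6, 5, 1, 1), (4, 2, 2, 1)],
    [(2, 1, 1, 1), (5, 4, 1, 1)],
    [(1, 2, 1, 1), (4, 5, 1, 1)],
    [(0, 1, 1, 1), (2, 3, 1, 2), (3, 4, 1, 1), (5, 6, 1, 1), (2, 4, 2, 1)],
    [(0, 2, 1, -1), (1, 3, 1, 2), (3, 5, 1, -1), (4, 6, 1, 1), (1, 5, 2, -1)],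
    [(0, 3, 1, -2), (1, 4, 1, 1), (2, 5, 1, 1), (3, 6, 1, -1), (0, 6, 2, 1)],
    [(0, 4, 1, 1), (2, 6, 1, -1)],
    [(0, 5, 1, -1), (1, 6, 1, -1)]]

/-- The entries for one root. -/
def entR (r : ℕ) : List Ent := ents.getD r []

/-- Apply a root matrix to a vector of polynomials. -/
def app (r : ℕ) (p : Poly) (v : List Poly) : List Poly :=
  (List.finRange 7).map fun i => Poly.norm (v.getD i.val [] ++
    (entR r).flatMap fun e => if e.1 = i then
      Poly.mul (Poly.smul e.2.2.2 (Poly.pow p e.2.2.1)) (v.getD e.2.1.val []) else [])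

/-- A unit vector. -/
def unitV (b : Fin 7) : List Poly :=
  (List.finRange 7).map fun i => if i = b then Poly.mono 1 0 0 else []

/-- A word applied to a unit vector. -/
def run (w : List (ℕ × Poly)) (b : Fin 7) : List Poly := w.foldr (fun p v => app p.1 p.2 v) (unitV b)

/-- Two words give the same matrix. -/
def chkW (w1 w2 : List (ℕ × Poly)) : Bool :=
  (List.finRange 7).all fun b => (List.finRange 7).all fun i =>
    Poly.eqv ((run w1 b).getD i.val []) ((run w2 b).getD i.val [])

variable {K : Type*} [CommRing K]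

/-- The root matrices. -/
def xm (r : ℕ) (t : K) : Matrix (Fin 7) (Fin 7) K :=
  Matrix.of fun i j => (if i = j then 1 else 0) +
    ((entR r).map fun e => if e.1 = i ∧ e.2.1 = j then (e.2.2.2 : K) * t ^ e.2.2.1 else 0).sum

theorem xm_mulVec (r : ℕ) (t : K) (v : Fin 7 → K) (i : Fin 7) :
    (xm r t *ᵥ v) i = v i +
      ((entR r).map fun e => if e.1 = i then (e.2.2.2 : K) * t ^ e.2.2.1 * v e.2.1 else 0).sum := by
  simp only [mulVec, dotProduct, xm, Matrix.of_apply, add_mul, Finset.sum_add_distrib, ite_mul,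
    one_mul, zero_mul, Finset.sum_ite_eq, Finset.mem_univ, if_true]
  congr 1
  induction entR r with
  | nil => simp
  | cons e l ih =>
    simp only [List.map_cons, List.sum_cons, add_mul, Finset.sum_add_distrib, ih]
    congr 1
    by_cases h : e.1 = i <;> simp [h, ite_mul]

section Eval

variable (t u : Kˣ)

/-- The value of a vector of polynomials. -/
def vev (v : List Poly) (i : Fin 7) : K := Poly.ev t u (v.getD i.val [])

theorem getD_finRange {α : Type*} (f : Fin 7 → α) (i : Fin 7) (d : α) :
    ((List.finRange 7).map f).getD i.val d = f i := by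
  simp [List.getD_eq_getElem?_getD]

theorem vev_app (r : ℕ) (p : Poly) (v : List Poly) :
    vev t u (app r p v) = xm r (Poly.ev t u p : K) *ᵥ vev t u v := by
  funext i
  rw [xm_mulVec, vev, app, getD_finRange, Poly.ev_norm, Poly.ev_append]
  congr 1
  induction entR r with
  | nil => simp
  | cons e l ih =>
    simp only [List.flatMap_cons, Poly.ev_append, List.map_cons, List.sum_cons, ih]
    congr 1
    by_cases h : e.1 = i
    · simp [h, Poly.ev_mul, Poly.ev_smul, Poly.ev_pow, vev]
    · simp [h]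

theorem vev_unitV (b : Fin 7) : (vev t u (unitV b) : Fin 7 → K) = Pi.single b 1 := by
  funext i
  rw [vev, unitV, getD_finRange]
  by_cases h : i = b <;> simp [h, Poly.mono, Poly.ev, Poly.tev]

/-- The matrix of a word. -/
def wm (w : List (ℕ × Poly)) : Matrix (Fin 7) (Fin 7) K :=
  (w.map fun p => xm p.1 (Poly.ev t u p.2 : K)).prod

theorem vev_run (w : List (ℕ × Poly)) (b : Fin 7) :
    (vev t u (run w b) : Fin 7 → K) = wm t u w *ᵥ Pi.single b 1 := by
  induction w with
  | nil => simp only [run, List.foldr_nil, wm, List.map_nil, List.prod_nil, one_mulVec, vev_unitV]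
  | cons p l ih =>
    show vev t u (app p.1 p.2 (run l b)) = _
    rw [vev_app, ih, mulVec_mulVec]
    rfl

theorem wm_eq_of_chk {w1 w2 : List (ℕ × Poly)} (h : chkW w1 w2 = true) :
    (wm t u w1 : Matrix (Fin 7) (Fin 7) K) = wm t u w2 := by
  simp only [chkW, List.all_eq_true, List.mem_finRange, true_implies] at h
  refine Matrix.ext_of_mulVec_single fun b => ?_
  rw [← vev_run, ← vev_run]
  funext i
  exact Poly.ev_eqv t u (h b i)

end Eval

/-- The degrees are positive. -/
theorem deg_pos : (List.range 12).all (fun r => (entR r).all fun e => decide (1 ≤ e.2.2.1)) = true := by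
  decide +kernel

theorem entR_ge {r : ℕ} (hr : ¬ r < 12) : entR r = [] := by
  have hl : ents.length = 12 := rfl
  simp [entR, List.getD_eq_getElem?_getD, List.getElem?_eq_none (show ents.length ≤ r by omega)]

theorem xm_ge {r : ℕ} (hr : ¬ r < 12) (t : K) : xm r t = 1 := by
  ext i j
  simp [xm, entR_ge hr, Matrix.one_apply]

theorem xm_zero (r : ℕ) : xm r (0 : K) = 1 := by
  by_cases hr : r < 12
  · ext i j
    have h := deg_pos
    simp only [List.all_eq_true, List.mem_range, decide_eq_true_eq] at h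
    simp only [xm, Matrix.of_apply, Matrix.one_apply, add_eq_left]
    refine List.sum_eq_zero fun x hx => ?_
    obtain ⟨e, he, rfl⟩ := List.mem_map.mp hx
    simp [zero_pow (Nat.one_le_iff_ne_zero.mp (h r hr e he))]
  · exact xm_ge hr 0

/-- The letter `t`. -/
def pT : Poly := Poly.mono 1 1 0

/-- The letter `u`. -/
def pU : Poly := Poly.mono 1 0 1

theorem chk_add : ∀ r < 12, chkW [(r, pT), (r, pU)] [(r, pT ++ pU)] = true := by decide +kernel

/-- The word on the right-hand side of the commutator relation. -/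
def rhsP (r s : ℕ) : List (ℕ × Poly) :=
  (r, pT) :: (s, pU) :: (G2Data.tab.commT r s).map fun c =>
    (c.1, Poly.mono (c.2.1 * (-1) ^ c.2.2.1) c.2.2.1 c.2.2.2)

/-- The commutator relations for one root. -/
def chkCommRow (r : ℕ) : Bool :=
  (List.range 12).all fun s => (s == r) || (s == negR chevG2 r) || chkW [(s, pU), (r, pT)] (rhsP r s)

theorem deg_comm : ∀ r < 12, ∀ s < 12, ∀ c ∈ G2Data.tab.commT r s,
    1 ≤ c.2.2.1 ∧ 1 ≤ c.2.2.2 := by decide +kernel

theorem chk_comm : ∀ r < 12, chkCommRow r = true := by decide +kernel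

section Field

variable {F : Type*} [Field F]

theorem xm_add (r : ℕ) (a b : F) : xm r a * xm r b = xm r (a + b) := by
  by_cases hr : r < 12
  · by_cases ha : a = 0
    · simp [ha, xm_zero]
    by_cases hb : b = 0
    · simp [hb, xm_zero]
    have := wm_eq_of_chk (Units.mk0 a ha) (Units.mk0 b hb) (chk_add r hr)
    simpa [wm, pT, pU, Poly.ev_mono] using this
  · simp [xm_ge hr]

theorem xm_comm {r s : ℕ} (hr : r < 12) (hs : s < 12) (h1 : s ≠ r) (h2 : s ≠ negR chevG2 r)
    (a b : F) : xm s b * xm r a = xm r a * xm s b *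
      ((rhsWord (G2Data.tab.commT r s) a b).map fun p => xm p.1 p.2).prod := by
  have h := chk_comm r hr
  simp only [chkCommRow, List.all_eq_true, List.mem_range, Bool.or_eq_true, beq_iff_eq] at h
  have hc := ((h s hs).resolve_left (not_or.mpr ⟨h1, h2⟩))
  have hdeg := deg_comm r hr s hs
  by_cases h0 : a = 0 ∨ b = 0
  · have e : ((rhsWord (G2Data.tab.commT r s) a b).map fun p => xm p.1 p.2).prod = 1 := by
      refine List.prod_eq_one fun x hx => ?_
      simp only [rhsWord, List.map_map, List.mem_map] at hx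
      obtain ⟨c, hc', rfl⟩ := hx
      obtain ⟨d1, d2⟩ := hdeg c hc'
      rcases h0 with h0 | h0 <;>
        simp [h0, zero_pow (Nat.one_le_iff_ne_zero.mp d1), zero_pow (Nat.one_le_iff_ne_zero.mp d2),
          xm_zero]
    rw [e, mul_one]
    rcases h0 with h0 | h0 <;> simp [h0, xm_zero]
  · obtain ⟨ha, hb⟩ := not_or.mp h0
    have := wm_eq_of_chk (Units.mk0 a ha) (Units.mk0 b hb) hc
    have et : Poly.ev (Units.mk0 a ha) (Units.mk0 b hb) pT = a := by simp [pT, Poly.ev_mono]
    have eu : Poly.ev (Units.mk0 a ha) (Units.mk0 b hb) pU = b := by simp [pU, Poly.ev_mono]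
    simp only [wm, rhsP, List.map_cons, List.prod_cons, List.map_nil, List.prod_nil,
      mul_one, List.map_map, et, eu] at this
    simp only [rhsWord, List.map_map, mul_assoc]
    refine this.trans ?_
    congr 2
    refine congrArg List.prod (List.map_congr_left fun c _ => ?_)
    simp [Poly.ev_mono, neg_pow a, mul_assoc]

/-- The root elements as invertible matrices. -/
def xg (r : ℕ) (t : F) : GL (Fin 7) F :=
  ⟨xm r t, xm r (-t), by rw [xm_add, add_neg_cancel, xm_zero],
    by rw [xm_add, neg_add_cancel, xm_zero]⟩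

@[simp] theorem coe_xg (r : ℕ) (t : F) : (xg r t : Matrix (Fin 7) (Fin 7) F) = xm r t := rfl

theorem xg_add (r : ℕ) (a b : F) : xg r a * xg r b = xg r (a + b) := Units.ext (xm_add r a b)

theorem lift_stX (r : ℕ) (t : F) :
    FreeGroup.lift (fun p : Fin chevG2.nroots × F => xg p.1.val p.2) (chevG2.stX r t) = xg r t := by
  by_cases hr : r < chevG2.nroots
  · simp [ChevalleyDatum.stX, hr]
  · rw [ChevalleyDatum.stX, dif_neg hr, map_one]
    exact Units.ext (xm_ge hr t).symm

theorem lift_stWord (w : List (ℕ × F)) :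
    FreeGroup.lift (fun p : Fin chevG2.nroots × F => xg p.1.val p.2) (chevG2.stWord w) =
      (w.map fun p => xg p.1 p.2).prod := by
  simp only [ChevalleyDatum.stWord, map_list_prod, List.map_map, Function.comp_def, lift_stX]

theorem rels : ∀ g ∈ chevG2.steinbergRelsAB F,
    FreeGroup.lift (fun p : Fin chevG2.nroots × F => xg p.1.val p.2) g = 1 := by
  rintro g (⟨r, a, b, -, rfl⟩ | ⟨r, s, a, b, hr, hs, h1, h2, rfl⟩)
  · simp only [map_mul, map_inv, lift_stX, xg_add, mul_inv_cancel]
  · rw [good_G2.full.cert.neg_eq hr] at h2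
    rw [good_G2.full.cert.commWord_eq hr hs]
    simp only [map_mul, map_inv, lift_stX, lift_stWord]
    have e : xg s b * xg r a = xg r a * xg s b *
        ((rhsWord (G2Data.tab.commT r s) a b).map fun p => xg p.1 p.2).prod := by
      apply Units.ext
      simp only [Units.val_mul, coe_xg]
      rw [show ∀ l : List (GL (Fin 7) F), ((l.prod : GL (Fin 7) F) : Matrix (Fin 7) (Fin 7) F) =
        (l.map Units.val).prod from fun l => map_list_prod (Units.coeHom _) l, List.map_map]
      exact xm_comm hr hs h1 h2 a b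
    rw [mul_inv_eq_one, mul_assoc, e]
    group

/-- The representation of the cover. -/
def repCover (F : Type*) [Field F] : chevG2.SteinbergCover F →* GL (Fin 7) F :=
  PresentedGroup.toGroup rels

variable (F) [Finite F]

theorem scθ_bij : Function.Bijective (good_G2.scθ F) := by
  let S := good_G2.scData (good_G2.scθ F) fun r t hr => good_G2.coe_scθ hr t
  have hk : S.θ.ker = ⊥ := S.ker_eq_bot ⟨_, wits_G2⟩ (S.hb_mul ⟨_, wits_G2⟩)
    (good_G2.hT_injective uni_G2)
  refine ⟨(MonoidHom.ker_eq_bot_iff _).mp (eq_bot_iff.mpr fun x hx => ?_), fun g => ?_⟩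
  · rw [MonoidHom.mem_ker] at hx
    rw [← hk, MonoidHom.mem_ker]
    exact (congrArg Subtype.val hx : _)
  · have : (g : GL chevG2.Idx F) ∈ S.θ.range := by rw [S.θ_range]; exact g.2
    obtain ⟨e, he⟩ := this
    exact ⟨e, Subtype.ext he⟩

/-- The representation of `G₂(F)`. -/
noncomputable def rho : chevG2.group F →* GL (Fin 7) F :=
  (repCover F).comp (MulEquiv.ofBijective _ (scθ_bij F)).symm.toMonoidHom

variable {F}

/-- The root elements in the group. -/
def xe (r : ℕ) (t : F) : chevG2.group F := ⟨good_G2.full.x r t, good_G2.x_mem_group r t⟩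

theorem rho_x (r : ℕ) (t : F) : rho F (xe r t) = xg r t := by
  have e : (MulEquiv.ofBijective _ (scθ_bij F)).symm (xe r t) =
      PresentedGroup.mk _ (chevG2.stX r t) := by
    rw [MulEquiv.symm_apply_eq]
    refine Subtype.ext ?_
    exact (good_G2.freeMap_stX r t).symm
  show repCover F ((MulEquiv.ofBijective _ (scθ_bij F)).symm (xe r t)) = _
  rw [e]
  exact lift_stX r t

end Field

end CfsgLib.Chev.G2Spec
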