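import Cfsg.Agent.Chev.G2Spec.Borel
import Cfsg.Agent.Chev.CentTorus
import Cfsg.Agent.Solvable.SchurZassenhaus

/-!
Elements of a Borel subgroup of `G₂`: the semisimple part moved into the torus, the unipotent part
in the root subgroups it centralises.
-/

set_option autoImplicit false
set_option linter.style.haveILetI false

namespace CfsgLib.Chev.G2Spec

open Cfsg.Lie Subgroup Pointwise

theorem conj_compl {G : Type*} [Group G] [Finite G] (U : Subgroup G) {p : ℕ} [Fact p.Prime]
    (hU : IsPGroup p U) {s h : G} (hsn : s ∈ Subgroup.normalizer (U : Set G)) (he : h⁻¹ * s ∈ U)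
    (hs : ¬ p ∣ orderOf s) (hh : ¬ p ∣ orderOf h) : ∃ v ∈ U ⊔ zpowers s, v * s * v⁻¹ = h := by
  set J := U ⊔ zpowers s with hJ
  have hsJ : s ∈ J := mem_sup_right (mem_zpowers s)
  have hhJ : h ∈ J := by
    have : h = s * (h⁻¹ * s)⁻¹ := by group
    rw [this]
    exact mul_mem hsJ (inv_mem (mem_sup_left he))
  have hUJ : U ≤ J := le_sup_left
  have hJn : J ≤ Subgroup.normalizer (U : Set G) :=
    sup_le U.le_normalizer (by rw [zpowers_le]; exact hsn)
  set N := U.subgroupOf J with hN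
  haveI hNn : N.Normal := (normal_subgroupOf_iff_le_normalizer hUJ).mpr hJn
  have hNp : IsPGroup p N := hU.of_equiv (subgroupOfEquivOfLe hUJ).symm
  -- no non-trivial element of order prime to `p` lies in the kernel
  have hker : ∀ {z : J} (j : ℕ), ¬ p ∣ orderOf z → z ^ j ∈ N → z ^ j = 1 := by
    intro z j hz hj
    obtain ⟨k, hk⟩ := hNp ⟨z ^ j, hj⟩
    have h1 : orderOf (z ^ j) ∣ p ^ k := orderOf_dvd_of_pow_eq_one (by simpa using congrArg Subtype.val hk)
    have h2 : orderOf (z ^ j) ∣ orderOf z := orderOf_pow_dvd j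
    obtain ⟨i, -, hi⟩ := (Nat.dvd_prime_pow Fact.out).mp h1
    rcases Nat.eq_zero_or_pos i with rfl | hi0
    · exact orderOf_eq_one_iff.mp (by simpa using hi)
    · exact absurd (((dvd_pow_self p hi0.ne').trans hi.symm.dvd).trans h2) hz
  set s' : J := ⟨s, hsJ⟩
  set h' : J := ⟨h, hhJ⟩
  have hos : ¬ p ∣ orderOf s' := by rwa [← orderOf_injective J.subtype J.subtype_injective s']
  have hoh : ¬ p ∣ orderOf h' := by rwa [← orderOf_injective J.subtype J.subtype_injective h']
  let π := QuotientGroup.mk' N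
  have hord : ∀ {z : J}, ¬ p ∣ orderOf z → orderOf (π z) = orderOf z := by
    intro z hz
    refine Nat.dvd_antisymm (orderOf_map_dvd π z) (orderOf_dvd_of_pow_eq_one (hker _ hz ?_))
    rw [← QuotientGroup.eq_one_iff]
    show π (z ^ _) = 1
    rw [map_pow, pow_orderOf_eq_one]
  have hsh : π s' = π h' := by
    refine QuotientGroup.eq.mpr ?_
    show (s'⁻¹ * h' : J) ∈ N
    rw [hN, mem_subgroupOf]
    have : s⁻¹ * h = (h⁻¹ * s)⁻¹ := by group
    show s⁻¹ * h ∈ U
    rw [this]
    exact inv_mem he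
  have hgen : ∀ x : J ⧸ N, x ∈ zpowers (π s') := by
    intro x
    obtain ⟨⟨y, hy⟩, rfl⟩ := QuotientGroup.mk'_surjective N x
    have hle : J ≤ ((zpowers (π s')).comap π).map J.subtype := by
      refine sup_le (fun u hu => ⟨⟨u, hUJ hu⟩, ?_, rfl⟩) ?_
      · show π ⟨u, hUJ hu⟩ ∈ zpowers (π s')
        rw [show π ⟨u, hUJ hu⟩ = 1 from (QuotientGroup.eq_one_iff _).mpr (mem_subgroupOf.mpr hu)]
        exact one_mem _
      · rw [zpowers_le]
        exact ⟨s', mem_zpowers _, rfl⟩
    obtain ⟨z, hz, e⟩ := hle hy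
    rwa [← show z = ⟨y, hy⟩ from Subtype.ext e]
  have hidx : ∀ z : J, ¬ p ∣ orderOf z → (π z = π s') → Nat.card (zpowers z) = N.index := by
    intro z hz e
    rw [Nat.card_zpowers, ← hord hz, e, index_eq_card,
      orderOf_eq_card_of_forall_mem_zpowers hgen]
  have hcop : (Nat.card N).Coprime N.index := by
    obtain ⟨k, hk⟩ := hNp.exists_card_eq
    rw [hk, ← hidx s' hos rfl, Nat.card_zpowers]
    exact Nat.Coprime.pow_left _ ((Fact.out : p.Prime).coprime_iff_not_dvd.mpr hos)
  haveI : Group.IsNilpotent N := hNp.isNilpotent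
  obtain ⟨g, hg⟩ := CfsgLib.SZ.conj_aux _ J rfl N hNn hcop (Or.inl inferInstance) (zpowers s')
    (zpowers h') (CfsgLib.SZ.isComplement'_of_card hcop (hidx _ hos rfl))
    (CfsgLib.SZ.isComplement'_of_card hcop (hidx _ hoh hsh.symm))
  have hmem : g * s' * g⁻¹ ∈ zpowers h' := by
    rw [← hg, CfsgLib.SZ.mem_conj_smul, show g⁻¹ * (g * s' * g⁻¹) * g = s' by group]
    exact mem_zpowers _
  obtain ⟨i, hi⟩ := mem_powers_iff_mem_zpowers.mpr hmem
  simp only at hi
  have hab : ∀ x y : J ⧸ N, x * y = y * x := fun x y => by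
    obtain ⟨a, rfl⟩ := mem_zpowers_iff.mp (hgen x)
    obtain ⟨b, rfl⟩ := mem_zpowers_iff.mp (hgen y)
    exact (Commute.refl (π s')).zpow_zpow a b
  have e : π h' ^ i = π h' := by
    rw [← map_pow, hi, map_mul, map_mul, hab (π g), mul_assoc, ← map_mul, mul_inv_cancel, map_one,
      mul_one, hsh]
  have e' : h' ^ i = h' := by
    have : (π h') ^ i = π h' ^ 1 := by rw [e, pow_one]
    rw [pow_eq_pow_iff_modEq, hord hoh] at this
    conv_rhs => rw [← pow_one h']
    exact pow_eq_pow_iff_modEq.mpr (by simpa using this)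
  refine ⟨g, g.2, ?_⟩
  have := congrArg Subtype.val (e'.symm.trans hi)
  exact this.symm

variable {F : Type*} [Field F] [Finite F]

omit [Finite F] in
theorem te_injective : Function.Injective (te (F := F)) := fun a b h =>
  good_G2.hT_injective uni_G2 (congrArg Subtype.val h)

omit [Finite F] in
theorem coe_te (c : Fin chevG2.rank → Fˣ) :
    ((te c : chevG2.group F) : GL chevG2.Idx F) = G2Data.tab.hT F c := rfl

omit [Finite F] in
theorem inU_pow_mul (v : chevG2.group F) (hv : InU v) (a : Fin chevG2.rank → Fˣ) :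
    ∀ j : ℕ, ∃ w, InU w ∧ (v * te a) ^ j = w * te (a ^ j)
  | 0 => ⟨1, one_mem _, by simp⟩
  | j + 1 => by
    obtain ⟨w, hw, e⟩ := inU_pow_mul v hv a j
    refine ⟨w * (te (a ^ j) * v * (te (a ^ j))⁻¹), mul_mem hw ?_, ?_⟩
    · show ((te (a ^ j) * v * (te (a ^ j))⁻¹ : chevG2.group F) : GL chevG2.Idx F) ∈ _
      rw [Subgroup.coe_mul, Subgroup.coe_mul, InvMemClass.coe_inv, coe_te,
        good_G2.posUnipotent_eq]
      refine good_G2.hT_conj_US _ (fun s hs => hs.1) _ ?_
      rw [← good_G2.posUnipotent_eq]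
      exact hv
    · rw [pow_succ, e, pow_succ a, map_mul]
      group

omit [Finite F] in
/-- A `p`-element of the Borel subgroup is unipotent. -/
theorem inU_of_pow {p : ℕ} [Fact p.Prime] [CharP F p] {u : chevG2.group F} (hu : InB u) {k : ℕ}
    (hk : u ^ p ^ k = 1) : InU u := by
  obtain ⟨v, hv, a, e⟩ := good_G2.mem_borel.mp hu
  set v' : chevG2.group F := ⟨v, good_G2.borel_le_group (good_G2.pos_le_borel hv)⟩
  have hue : u = v' * te a := Subtype.ext e
  obtain ⟨w, hw, ew⟩ := inU_pow_mul v' hv a (p ^ k)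
  rw [← hue, hk] at ew
  have h1 : te (a ^ p ^ k) = (1 : chevG2.group F) := by
    have hmem : G2Data.tab.hT F (a ^ p ^ k) ∈ chevG2.posUnipotent F ⊓ chevG2.diagonalSubgroup F := by
      refine Subgroup.mem_inf.mpr ⟨?_, by rw [good_G2.full.diagonal_eq_range]; exact ⟨_, rfl⟩⟩
      rw [← coe_te, ← inv_eq_of_mul_eq_one_right ew.symm, InvMemClass.coe_inv]
      exact inv_mem hw
    rw [good_G2.pos_inf_diagonal, Subgroup.mem_bot] at hmem
    exact Subtype.ext hmem
  have h2 : a ^ p ^ k = 1 := te_injective (by rw [h1, map_one])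
  have h3 : a = 1 := by
    funext i
    have h4 : ((a i : F) ^ p ^ k) = 1 := by
      have := congrArg Units.val (congrFun h2 i)
      simpa using this
    refine Units.ext (sub_eq_zero.mp (eq_zero_of_pow_eq_zero (n := p ^ k) ?_))
    rw [Pi.one_apply, Units.val_one, sub_pow_char_pow (p := p), h4, one_pow, sub_self]
  rw [h3, map_one, mul_one] at hue
  rw [hue]
  exact hv

/-- The semisimple part goes into the torus, the unipotent part into its centraliser. -/
theorem borel_decomp {p : ℕ} [Fact p.Prime] [CharP F p] {g s : chevG2.group F} {k : ℕ}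
    (hg : InB g) (hs : InB s) (hsg : Commute s g) (hsp : ¬ p ∣ orderOf s)
    (hu : (s⁻¹ * g) ^ p ^ k = 1) :
    ∃ (y : chevG2.group F) (c : Fin chevG2.rank → Fˣ) (u : chevG2.group F),
      y * s * y⁻¹ = te c ∧ y * g * y⁻¹ = te c * u ∧ Commute (te c) u ∧ u ^ p ^ k = 1 ∧
      (u : GL chevG2.Idx F) ∈
        good_G2.US F {r | Tab.IsPos chevG2 r ∧ G2Data.tab.chi (F := F) r c = 1} := by
  obtain ⟨v, hv, c, e⟩ := good_G2.mem_borel.mp hs
  haveI := Fintype.ofFinite F
  obtain ⟨P, hP⟩ := good_G2.exists_sylow (F := F) p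
  set U := (chevG2.posUnipotent F).subgroupOf (chevG2.group F)
  have hUp : IsPGroup p U := by
    rw [← hP]
    exact P.2
  set v' : chevG2.group F := ⟨v, good_G2.borel_le_group (good_G2.pos_le_borel hv)⟩
  have hse : s = v' * te c := Subtype.ext e
  have hnorm : ∀ b : chevG2.group F, InB b → b ∈ Subgroup.normalizer (U : Set (chevG2.group F)) := by
    intro b hb
    rw [Subgroup.mem_normalizer_iff']
    obtain ⟨w, hw, a, ea⟩ := good_G2.mem_borel.mp hb
    intro x
    have hbn : (b : GL chevG2.Idx F) ∈ Subgroup.normalizer (chevG2.posUnipotent F : Set _) := by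
      rw [ea]
      exact mul_mem (Subgroup.le_normalizer hw) (good_G2.diagonal_le_normalizer_pos
        (by rw [good_G2.full.diagonal_eq_range]; exact ⟨a, rfl⟩))
    have := (Subgroup.mem_normalizer_iff'.mp hbn) (x : GL chevG2.Idx F)
    simpa [U, Subgroup.mem_subgroupOf] using this
  have hcp : ¬ p ∣ orderOf (te c : chevG2.group F) := by
    intro hd
    have hoc : orderOf (te c : chevG2.group F) = orderOf c := orderOf_injective te te_injective c
    obtain ⟨w, hw, ew⟩ := inU_pow_mul v' hv c (orderOf s)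
    rw [← hse, pow_orderOf_eq_one] at ew
    have hc1 : c ^ orderOf s = 1 := by
      have hmem : G2Data.tab.hT F (c ^ orderOf s) ∈
          chevG2.posUnipotent F ⊓ chevG2.diagonalSubgroup F := by
        refine Subgroup.mem_inf.mpr ⟨?_, by rw [good_G2.full.diagonal_eq_range]; exact ⟨_, rfl⟩⟩
        rw [← coe_te, ← inv_eq_of_mul_eq_one_right ew.symm, InvMemClass.coe_inv]
        exact inv_mem hw
      rw [good_G2.pos_inf_diagonal, Subgroup.mem_bot] at hmem
      exact te_injective (by rw [map_one]; exact Subtype.ext hmem)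
    exact hsp ((hoc ▸ hd).trans (orderOf_dvd_of_pow_eq_one hc1))
  have he : (te c)⁻¹ * s ∈ U := by
    rw [hse, Subgroup.mem_subgroupOf]
    rw [Subgroup.coe_mul, Subgroup.coe_mul, InvMemClass.coe_inv, coe_te, ← map_inv, ← mul_assoc]
    have := good_G2.hT_conj_US (F := F) {r | Tab.IsPos chevG2 r} (fun s hs => hs.1) c⁻¹
      (u := v) (by rw [← good_G2.posUnipotent_eq]; exact hv)
    rw [← good_G2.posUnipotent_eq, map_inv, inv_inv] at this
    rw [map_inv]
    exact this
  obtain ⟨y, hy, ey⟩ := conj_compl U hUp (hnorm s hs) he hsp hcp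
  have hyB : InB y := by
    have hle : U ⊔ zpowers s ≤ (chevG2.borelSubgroup F).subgroupOf (chevG2.group F) :=
      sup_le (fun x hx => good_G2.pos_le_borel (F := F) hx) (by rw [zpowers_le]; exact hs)
    exact hle hy
  refine ⟨y, c, y * (s⁻¹ * g) * y⁻¹, ey, by rw [← ey]; group, ?_, ?_, ?_⟩
  · rw [← ey]
    show y * s * y⁻¹ * (y * (s⁻¹ * g) * y⁻¹) = y * (s⁻¹ * g) * y⁻¹ * (y * s * y⁻¹)
    simp only [mul_assoc, inv_mul_cancel_left, mul_inv_cancel_left]
    rw [← mul_assoc g s y⁻¹, ← hsg.eq, mul_assoc s g y⁻¹, inv_mul_cancel_left]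
  · rw [conj_pow, hu, mul_one, mul_inv_cancel]
  · have hB : InB (y * (s⁻¹ * g) * y⁻¹) := (hyB.mul (hs.inv.mul hg)).mul hyB.inv
    have hU' := inU_of_pow (k := k) hB (by rw [conj_pow, hu, mul_one, mul_inv_cancel])
    rw [InU, good_G2.posUnipotent_eq] at hU'
    refine (good_G2.fixed_US good_G2.closed_pos c hU').mp ?_
    have hco : Commute (te c) (y * (s⁻¹ * g) * y⁻¹) := by
      rw [← ey]
      show y * s * y⁻¹ * (y * (s⁻¹ * g) * y⁻¹) = y * (s⁻¹ * g) * y⁻¹ * (y * s * y⁻¹)
      simp only [mul_assoc, inv_mul_cancel_left, mul_inv_cancel_left]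
      rw [← mul_assoc g s y⁻¹, ← hsg.eq, mul_assoc s g y⁻¹, inv_mul_cancel_left]
    have := congrArg (fun x : chevG2.group F => (x : GL chevG2.Idx F)) hco.eq
    simp only [Subgroup.coe_mul, coe_te] at this
    rw [mul_inv_eq_iff_eq_mul]
    simpa using this

end CfsgLib.Chev.G2Spec
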