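import Cfsg.Agent.Chev.G2Spec.Attain
import Mathlib.Algebra.Field.ZMod

/-!
Elements of small order over the prime fields.
-/

set_option autoImplicit false
set_option linter.style.haveILetI false

namespace CfsgLib.Chev.G2Spec

open Cfsg.Lie Matrix

variable {R : Type*} [CommRing R]

/-- A root matrix with parameter one, applied to a list. -/
def app1 (r : ℕ) (v : List R) : List R :=
  (List.finRange 7).map fun i => v.getD i.val 0 +
    ((entR r).map fun e => if e.1 = i then (e.2.2.2 : R) * 1 ^ e.2.2.1 * v.getD e.2.1.val 0 else 0).sum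

/-- The columns of the powers of a word. -/
def powCol (w : List ℕ) (k : ℕ) (b : Fin 7) : List R :=
  ((List.range k).flatMap fun _ => w).foldr app1 ((List.finRange 7).map fun i => if i = b then 1 else 0)

/-- The power of a word is the identity. -/
def chkPow1 (p : ℕ) (w : List ℕ) (k : ℕ) : Bool :=
  (List.finRange 7).all fun b => (List.finRange 7).all fun i =>
    decide ((powCol (R := ZMod p) w k b).getD i.val 0 = if i = b then 1 else 0)

/-- The matrix of a word with parameters one. -/
def wm1 (w : List ℕ) : Matrix (Fin 7) (Fin 7) R := (w.map fun r => xm r (1 : R)).prod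

theorem flatMap_prod (w : List ℕ) : ∀ k, wm1 (R := R) ((List.range k).flatMap fun _ => w) = wm1 w ^ k
  | 0 => by simp [wm1]
  | k + 1 => by
    rw [List.range_succ, List.flatMap_append, pow_succ, ← flatMap_prod w k]
    simp [wm1]

theorem powCol_eq (w : List ℕ) (k : ℕ) (b i : Fin 7) :
    (powCol (R := R) w k b).getD i.val 0 = (wm1 w ^ k) i b := by
  have : ∀ (l : List ℕ), (fun i : Fin 7 => (l.foldr app1
      ((List.finRange 7).map fun i => if i = b then (1 : R) else 0)).getD i.val 0) =
        wm1 l *ᵥ Pi.single b 1 := by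
    intro l
    induction l with
    | nil =>
      funext j
      rw [List.foldr_nil, getD_finRange, wm1, List.map_nil, List.prod_nil, one_mulVec,
        Pi.single_apply]
    | cons r l ih =>
      rw [show wm1 (r :: l) = xm r (1 : R) * wm1 l from rfl, ← mulVec_mulVec, ← ih]
      funext j
      rw [List.foldr_cons, app1, getD_finRange, xm_mulVec]
  have h := congrFun (this ((List.range k).flatMap fun _ => w)) i
  rw [flatMap_prod] at h
  rw [powCol]
  refine h.trans ?_
  simp [mulVec_single]

theorem chk_iff (p : ℕ) (w : List ℕ) (k : ℕ) :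
    chkPow1 p w k = true ↔ wm1 (R := ZMod p) w ^ k = 1 := by
  simp only [chkPow1, List.all_eq_true, List.mem_finRange, true_implies, decide_eq_true_eq,
    powCol_eq]
  exact ⟨fun h => Matrix.ext fun i b => by rw [h b i, Matrix.one_apply],
    fun h b i => by rw [h, Matrix.one_apply]⟩

variable {F : Type*} [Field F] [Finite F]

theorem pow_xe {p : ℕ} [CharP F p] (w : List ℕ) (k : ℕ) :
    (chkPow1 p w k = true → Function.Injective (rho F) →
      (w.map fun r => xe r (1 : F)).prod ^ k = 1) ∧
    ((w.map fun r => xe r (1 : F)).prod ^ k = 1 → chkPow1 p w k = true) := by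
  have e : ((rho F ((w.map fun r => xe r (1 : F)).prod ^ k) : GL (Fin 7) F) :
      Matrix (Fin 7) (Fin 7) F) = (ZMod.castHom (dvd_refl p) F).mapMatrix (wm1 w ^ k) := by
    rw [map_pow, Units.val_pow_eq_pow_val, map_pow]
    congr 1
    clear k
    induction w with
    | nil => simp [wm1]
    | cons r l ih =>
      rw [List.map_cons, List.prod_cons, map_mul, Units.val_mul, ih, rho_x, coe_xg,
        show wm1 (r :: l) = xm r (1 : ZMod p) * wm1 l from rfl, map_mul]
      congr 1
      ext i j
      simp only [xm, RingHom.mapMatrix_apply, Matrix.map_apply, Matrix.of_apply, map_add,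
        map_list_sum, List.map_map, Function.comp_def, apply_ite (ZMod.castHom (dvd_refl p) F),
        map_mul, map_intCast, map_pow, map_one, map_zero]
  have hinjM : Function.Injective ((ZMod.castHom (dvd_refl p) F).mapMatrix (m := Fin 7)) := by
    intro A B h
    ext i j
    exact ZMod.castHom_injective F (congrFun (congrFun h i) j)
  refine ⟨fun h hinj => hinj (Units.ext ?_), fun h => ?_⟩
  · rw [e, (chk_iff p w k).mp h, map_one, map_one, Units.val_one]
  · rw [h, map_one, Units.val_one] at e
    exact (chk_iff p w k).mpr (hinjM (by rw [← e, map_one]))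

theorem mem_sq {p e : ℕ} [Fact p.Prime] [CharP F p] (hinj : Function.Injective (rho F))
    (w : List ℕ) (h1 : chkPow1 p w (p ^ e) = false) (h2 : chkPow1 p w (p ^ (e + 1)) = true) :
    p ^ (e + 1) ∈ Set.range (orderOf : chevG2.group F → ℕ) :=
  ⟨_, orderOf_eq_prime_pow (fun h => by simp [(pow_xe (F := F) w _).2 h] at h1)
    ((pow_xe w _).1 h2 hinj)⟩

theorem chk8 : chkPow1 2 [6, 7] (2 ^ 2) = false ∧ chkPow1 2 [6, 7] (2 ^ 3) = true := by decide +kernel

theorem chk9 : chkPow1 3 [6, 7] (3 ^ 1) = false ∧ chkPow1 3 [6, 7] (3 ^ 2) = true := by decide +kernel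

theorem chk25 : chkPow1 5 [6, 7] (5 ^ 1) = false ∧ chkPow1 5 [6, 7] (5 ^ 2) = true := by decide +kernel

theorem chk12 : chkPow1 2 [0, 2, 9] 4 = false ∧ chkPow1 2 [0, 2, 9] 6 = false ∧
    chkPow1 2 [0, 2, 9] 12 = true := by decide +kernel

theorem mem_twelve [CharP F 2] (hinj : Function.Injective (rho F)) :
    12 ∈ Set.range (orderOf : chevG2.group F → ℕ) := by
  obtain ⟨h4, h6, h12⟩ := chk12
  set g := (([0, 2, 9] : List ℕ).map fun r => xe r (1 : F)).prod with hg
  have hd : orderOf g ∣ 12 := orderOf_dvd_of_pow_eq_one ((pow_xe _ _).1 h12 hinj)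
  have n4 : ¬ orderOf g ∣ 4 := fun h => by
    simp [(pow_xe (F := F) [0, 2, 9] 4).2 (orderOf_dvd_iff_pow_eq_one.mp h)] at h4
  have n6 : ¬ orderOf g ∣ 6 := fun h => by
    simp [(pow_xe (F := F) [0, 2, 9] 6).2 (orderOf_dvd_iff_pow_eq_one.mp h)] at h6
  refine ⟨g, ?_⟩
  have hle := Nat.le_of_dvd (by norm_num) hd
  generalize orderOf g = n at hd n4 n6 hle ⊢
  interval_cases n <;> simp_all (config := { decide := true })

theorem rho_injective_of_card {K : Type*} [Field K] [Fintype K] (h3 : 3 ≤ Fintype.card K) :
    Function.Injective (rho K) := by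
  classical
  obtain ⟨x, -, hx⟩ := Finset.exists_mem_notMem_of_card_lt_card (s := ({0, 1} : Finset K))
    (t := Finset.univ) (by rw [Finset.card_univ]; exact lt_of_le_of_lt Finset.card_le_two (by omega))
  simp only [Finset.mem_insert, Finset.mem_singleton, not_or] at hx
  haveI := (Cfsg.Agent.S1055.result (F := K) ⟨x, hx⟩).1
  exact rho_injective fun H hH => hH.eq_bot_or_eq_top

end CfsgLib.Chev.G2Spec
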