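import Cfsg.Agent.Chev.G2Spec.Rep
import Cfsg.Agent.Chev.FieldFix

/-!
The torus and the Weyl elements in the seven-dimensional representation, and the quadratic form.
-/

set_option autoImplicit false

namespace CfsgLib.Chev.G2Spec

open Cfsg.Lie Matrix Tab

/-- The weights. -/
def wts : List (ℤ × ℤ) := [(1, 0), (-1, 1), (2, -1), (0, 0), (-2, 1), (1, -1), (-1, 0)]

/-- The exponent of a fundamental coweight on a basis vector. -/
def wexp (i : Fin chevG2.rank) (b : Fin 7) : ℤ :=
  if i.val = 0 then (wts.getD b.val (0, 0)).1 else (wts.getD b.val (0, 0)).2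

/-- The constant one. -/
def pC (c : ℤ) : Poly := Poly.mono c 0 0

/-- The torus check for one fundamental root. -/
def chkH (i : Fin chevG2.rank) : Bool :=
  let r := chevG2.simple i
  let s := negR chevG2 r
  (List.finRange 7).all fun b => (List.finRange 7).all fun j => Poly.eqv
    ((run [(r, pT), (s, Poly.mono (-1) (-1) 0), (r, pT), (r, pC (-1)), (s, pC 1), (r, pC (-1))] b).getD
      j.val []) (if j = b then Poly.mono 1 (wexp i b) 0 else [])

theorem chk_h : ∀ i : Fin chevG2.rank, chkH i = true := by decide +kernel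

/-- The permutations of the basis by the fundamental reflections. -/
def sperm (i : Fin chevG2.rank) (b : Fin 7) : Fin 7 :=
  if i.val = 0 then [1, 0, 4, 3, 2, 6, 5].getD b.val 0 else [0, 2, 1, 3, 5, 4, 6].getD b.val 0

/-- The Weyl check for one fundamental root. -/
def chkN (i : Fin chevG2.rank) : Bool :=
  let r := chevG2.simple i
  let s := negR chevG2 r
  (List.finRange 7).all fun b => [1, -1].any fun e : ℤ => (List.finRange 7).all fun j => Poly.eqv
    ((run [(r, pC 1), (s, pC (-1)), (r, pC 1)] b).getD j.val [])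
    (if j = sperm i b then pC e else [])

theorem chk_n : ∀ i : Fin chevG2.rank, chkN i = true := by decide +kernel

variable {F : Type*} [Field F]

/-- The character of the torus at a basis vector. -/
def wchar (b : Fin 7) : (Fin chevG2.rank → Fˣ) →* Fˣ where
  toFun c := ∏ i, c i ^ wexp i b
  map_one' := by simp
  map_mul' c d := by simp [mul_zpow, Finset.prod_mul_distrib]

/-- The torus elements in the group. -/
def te : (Fin chevG2.rank → Fˣ) →* chevG2.group F :=
  (G2Data.tab.hT F).codRestrict _ fun c => good_G2.diagonal_le_group (by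
    rw [good_G2.full.diagonal_eq_range]; exact ⟨c, rfl⟩)

/-- The Weyl representatives in the group. -/
def ne (L : List (Fin chevG2.rank)) : chevG2.group F :=
  (L.map fun i : Fin chevG2.rank => (⟨good_G2.full.ns F i, good_G2.ns_mem_group i⟩ : chevG2.group F)).prod

theorem coe_ne (L : List (Fin chevG2.rank)) :
    ((ne L : chevG2.group F) : GL chevG2.Idx F) = good_G2.full.nw F L := by
  simp [ne, Full.nw, Function.comp_def]

theorem nr_group (r : ℕ) (t : F) :
    (⟨good_G2.full.nr r t, good_G2.nr_mem_group r t⟩ : chevG2.group F) =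
      xe r t * xe (negR chevG2 r) (-t⁻¹) * xe r t := rfl

variable [Finite F]

theorem rho_te_single (i : Fin chevG2.rank) (u : Fˣ) (b : Fin 7) :
    (rho F (te (Pi.mulSingle i u)) : Matrix (Fin 7) (Fin 7) F) *ᵥ Pi.single b 1 =
      ((wchar b (Pi.mulSingle i u) : Fˣ) : F) • Pi.single b 1 := by
  have e : te (Pi.mulSingle i u) = xe (chevG2.simple i) (u : F) *
      xe (negR chevG2 (chevG2.simple i)) (-(u : F)⁻¹) * xe (chevG2.simple i) (u : F) *
      (xe (chevG2.simple i) (-1 : F) * xe (negR chevG2 (chevG2.simple i)) (-(-1 : F)⁻¹) *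
        xe (chevG2.simple i) (-1 : F)) := Subtype.ext (good_G2.full.hT_single u)
  have hw : wchar b (Pi.mulSingle i u) = u ^ wexp i b := by
    show ∏ j, (Pi.mulSingle i u : Fin chevG2.rank → Fˣ) j ^ wexp j b = _
    rw [Finset.prod_eq_single i (fun j _ hj => by simp [hj]) (by simp)]
    simp
  rw [e, hw]
  simp only [map_mul, rho_x, Units.val_mul, coe_xg]
  have h := chk_h i
  simp only [chkH, List.all_eq_true, List.mem_finRange, true_implies] at h
  funext j
  have hv := congrFun (vev_run u 1 [(chevG2.simple i, pT), (negR chevG2 (chevG2.simple i),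
    Poly.mono (-1) (-1) 0), (chevG2.simple i, pT), (chevG2.simple i, pC (-1)),
    (negR chevG2 (chevG2.simple i), pC 1), (chevG2.simple i, pC (-1))] b) j
  rw [vev, Poly.ev_eqv u 1 (h b j)] at hv
  simp only [wm, List.map_cons, List.map_nil, List.prod_cons, List.prod_nil, mul_one, pT, pC,
    Poly.ev_mono] at hv
  by_cases hj : j = b
  · subst hj
    simp only [if_true, Poly.ev_mono] at hv
    simp [mulVec_single] at hv ⊢
    simpa [mul_assoc] using hv.symm
  · simp only [if_neg hj, Poly.ev_nil] at hv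
    simp [mulVec_single, hj] at hv ⊢
    simpa [mul_assoc] using hv.symm

theorem rho_te (c : Fin chevG2.rank → Fˣ) (b : Fin 7) :
    (rho F (te c) : Matrix (Fin 7) (Fin 7) F) *ᵥ Pi.single b 1 =
      ((wchar b c : Fˣ) : F) • Pi.single b 1 := by
  induction c using good_G2.full.hT_induction with
  | h1 => rw [map_one, map_one, Units.val_one, one_mulVec, map_one, Units.val_one, one_smul]
  | hm a a' ha ha' =>
    rw [map_mul, map_mul, Units.val_mul, ← mulVec_mulVec, ha', mulVec_smul, ha, smul_smul, map_mul,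
      Units.val_mul, mul_comm]
  | hs i u => exact rho_te_single i u b

theorem rho_ns (i : Fin chevG2.rank) (b : Fin 7) : ∃ η : F, η ≠ 0 ∧
    (rho F (ne [i]) : Matrix (Fin 7) (Fin 7) F) *ᵥ Pi.single b 1 = η • Pi.single (sperm i b) 1 := by
  have h := chk_n i
  simp only [chkN, List.all_eq_true, List.any_eq_true, List.mem_finRange, true_implies] at h
  obtain ⟨e, he, h⟩ := h b
  refine ⟨(e : F), ?_, ?_⟩
  · rcases List.mem_cons.mp he with rfl | he
    · simp
    · rw [List.mem_singleton.mp he]; simp
  · have e1 : ne [i] = xe (chevG2.simple i) (1 : F) *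
        xe (negR chevG2 (chevG2.simple i)) (-(1 : F)⁻¹) * xe (chevG2.simple i) (1 : F) := by
      simp only [ne, List.map_cons, List.map_nil, List.prod_cons, List.prod_nil, mul_one]
      rfl
    rw [e1]
    simp only [map_mul, rho_x, Units.val_mul, coe_xg]
    funext j
    have hv := congrFun (vev_run (1 : Fˣ) 1 [(chevG2.simple i, pC 1),
      (negR chevG2 (chevG2.simple i), pC (-1)), (chevG2.simple i, pC 1)] b) j
    rw [vev, Poly.ev_eqv 1 1 (h j)] at hv
    simp only [wm, List.map_cons, List.map_nil, List.prod_cons, List.prod_nil, mul_one, pC,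
      Poly.ev_mono] at hv
    by_cases hj : j = sperm i b
    · simp only [if_pos hj, Poly.ev_mono] at hv
      subst hj
      simp [mulVec_single] at hv ⊢
      simpa [mul_assoc] using hv.symm
    · simp only [if_neg hj, Poly.ev_nil] at hv
      simp [mulVec_single, hj] at hv ⊢
      simpa [mul_assoc] using hv.symm

/-- The permutation of the basis by a word. -/
def sword (L : List (Fin chevG2.rank)) (b : Fin 7) : Fin 7 := L.foldr sperm b

theorem rho_ne : ∀ (L : List (Fin chevG2.rank)) (b : Fin 7), ∃ η : F, η ≠ 0 ∧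
    (rho F (ne L) : Matrix (Fin 7) (Fin 7) F) *ᵥ Pi.single b 1 = η • Pi.single (sword L b) 1
  | [], b => ⟨1, one_ne_zero, by
      rw [show (ne [] : chevG2.group F) = 1 from rfl, map_one, Units.val_one, one_mulVec, one_smul]
      rfl⟩
  | i :: L, b => by
    obtain ⟨η, hη, e⟩ := rho_ne L b
    obtain ⟨θ, hθ, e'⟩ := rho_ns (F := F) i (sword L b)
    refine ⟨θ * η, mul_ne_zero hθ hη, ?_⟩
    rw [show (ne (i :: L) : chevG2.group F) = ne [i] * ne L by simp [ne], map_mul, Units.val_mul,
      ← mulVec_mulVec, e, mulVec_smul, e', smul_smul, mul_comm]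
    rfl

/-- The root of a weight. -/
def wroot (b : Fin 7) : ℕ := [9, 8, 7, 0, 4, 3, 2].getD b.val 0

theorem sperm_root : ∀ i : Fin chevG2.rank, ∀ b : Fin 7, b ≠ 3 →
    sperm i b ≠ 3 ∧ G2Data.tab.reflT i.val (wroot b) = wroot (sperm i b) := by decide +kernel

theorem sword_root : ∀ (L : List (Fin chevG2.rank)) (b : Fin 7), b ≠ 3 →
    sword L b ≠ 3 ∧ G2Data.tab.wordT (L.map Fin.val) (wroot b) = wroot (sword L b)
  | [], b, hb => ⟨hb, rfl⟩
  | i :: L, b, hb => by
    obtain ⟨h1, h2⟩ := sword_root L b hb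
    obtain ⟨h3, h4⟩ := sperm_root i _ h1
    refine ⟨h3, ?_⟩
    show G2Data.tab.reflT i.val (G2Data.tab.wordT (L.map Fin.val) (wroot b)) = _
    rw [h2, h4]
    rfl

omit [Finite F]

section Form

variable {K : Type*} [CommRing K]

/-- The bilinear expression of the quadratic form. -/
def frm (v w : Fin 7 → K) : K := v 0 * w 6 - v 1 * w 5 + v 2 * w 4 - v 3 * w 3

/-- The quadratic form. -/
def qf (v : Fin 7 → K) : K := frm v v

/-- The polar form. -/
def bf (v w : Fin 7 → K) : K := frm v w + frm w v

theorem qf_add (v w : Fin 7 → K) : qf (v + w) = qf v + bf v w + qf w := by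
  simp [qf, bf, frm]; ring

theorem qf_smul (a : K) (v : Fin 7 → K) : qf (a • v) = a ^ 2 * qf v := by
  simp [qf, frm]; ring

theorem bf_smul_right (a : K) (v w : Fin 7 → K) : bf v (a • w) = a * bf v w := by
  simp [bf, frm]; ring

theorem bf_sub_right (v w w' : Fin 7 → K) : bf v (w - w') = bf v w - bf v w' := by
  simp [bf, frm]; ring

theorem bf_add_right (v w w' : Fin 7 → K) : bf v (w + w') = bf v w + bf v w' := by
  simp [bf, frm]; ring

theorem bf_smul_left (a : K) (v w : Fin 7 → K) : bf (a • v) w = a * bf v w := by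
  simp [bf, frm]; ring

theorem bf_self (v : Fin 7 → K) : bf v v = 2 * qf v := by
  simp [bf, qf]; ring

theorem bf_comm (v w : Fin 7 → K) : bf v w = bf w v := by
  simp [bf]; ring

theorem qf_sum {ι : Type*} [DecidableEq ι] [LinearOrder ι] (s : Finset ι) (w : ι → Fin 7 → K) :
    qf (∑ i ∈ s, w i) = (∑ i ∈ s, qf (w i)) + ∑ i ∈ s, ∑ j ∈ s.filter (i < ·), bf (w i) (w j) := by
  induction s using Finset.induction_on_min with
  | empty => simp [qf, frm]
  | insert a s ha ih =>
    have hna : a ∉ s := fun h => lt_irrefl a (ha a h)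
    rw [Finset.sum_insert hna, qf_add, ih, Finset.sum_insert hna, Finset.sum_insert hna]
    have e1 : (insert a s).filter (a < ·) = s := by
      ext x
      simp only [Finset.mem_filter, Finset.mem_insert]
      exact ⟨fun h => h.1.resolve_left (ne_of_gt h.2), fun h => ⟨Or.inr h, ha x h⟩⟩
    have e2 : ∀ i ∈ s, (insert a s).filter (i < ·) = s.filter (i < ·) := fun i hi => by
      rw [Finset.filter_insert, if_neg (not_lt.mpr (ha i hi).le)]
    rw [e1, Finset.sum_congr rfl fun i hi => congrArg (fun S => Finset.sum S fun j => bf (w i) (w j))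
      (e2 i hi)]
    have e3 : bf (w a) (∑ i ∈ s, w i) = ∑ i ∈ s, bf (w a) (w i) := by
      clear ih ha e1 e2 hna
      induction s using Finset.induction_on with
      | empty => simp [bf, frm]
      | insert b s hb ih => rw [Finset.sum_insert hb, Finset.sum_insert hb, bf_add_right, ih]
    rw [e3]
    ring

end Form

/-- The form check for one root. -/
def chkQ (r : ℕ) : Bool :=
  (List.finRange 7).all fun b => (List.finRange 7).all fun c =>
    let f : List Poly → List Poly → Poly := fun v w =>
      Poly.mul (v.getD 0 []) (w.getD 6 []) ++ Poly.smul (-1) (Poly.mul (v.getD 1 []) (w.getD 5 [])) ++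
        Poly.mul (v.getD 2 []) (w.getD 4 []) ++ Poly.smul (-1) (Poly.mul (v.getD 3 []) (w.getD 3 []))
    if b = c then Poly.eqv (f (run [(r, pT)] b) (run [(r, pT)] b)) (f (unitV b) (unitV b))
    else Poly.eqv (f (run [(r, pT)] b) (run [(r, pT)] c) ++ f (run [(r, pT)] c) (run [(r, pT)] b))
      (f (unitV b) (unitV c) ++ f (unitV c) (unitV b))

theorem chk_q : ∀ r < 12, chkQ r = true := by decide +kernel

theorem qf_xm (r : ℕ) (t : F) (v : Fin 7 → F) : qf (xm r t *ᵥ v) = qf v := by
  by_cases hr : r < 12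
  swap
  · simp [xm_ge hr]
  by_cases ht : t = 0
  · simp [ht, xm_zero]
  set M := xm r t
  have hrun : ∀ b, (vev (Units.mk0 t ht) 1 (run [(r, pT)] b) : Fin 7 → F) = M *ᵥ Pi.single b 1 := by
    intro b
    rw [vev_run]
    simp [wm, pT, Poly.ev_mono, M]
  have h := chk_q r hr
  simp only [chkQ, List.all_eq_true, List.mem_finRange, true_implies] at h
  have hq : ∀ b, qf (M *ᵥ Pi.single b 1) = qf (Pi.single b (1 : F)) := fun b => by
    have h' := h b b
    rw [if_pos rfl] at h'
    have := Poly.ev_eqv (Units.mk0 t ht) (1 : Fˣ) h'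
    rw [← hrun, ← vev_unitV (Units.mk0 t ht) 1]
    simp only [Poly.ev_append, Poly.ev_smul, Poly.ev_mul, Int.cast_neg, Int.cast_one] at this
    simp only [qf, frm, vev, Fin.coe_ofNat_eq_mod, Nat.reduceMod]
    linear_combination this
  have hb : ∀ b c, b ≠ c → bf (M *ᵥ Pi.single b 1) (M *ᵥ Pi.single c 1) =
      bf (Pi.single b (1 : F)) (Pi.single c 1) := fun b c hbc => by
    have h' := h b c
    rw [if_neg hbc] at h'
    have := Poly.ev_eqv (Units.mk0 t ht) (1 : Fˣ) h'
    rw [← hrun, ← hrun, ← vev_unitV (Units.mk0 t ht) 1, ← vev_unitV (Units.mk0 t ht) 1]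
    simp only [Poly.ev_append, Poly.ev_smul, Poly.ev_mul, Int.cast_neg, Int.cast_one] at this
    simp only [bf, frm, vev, Fin.coe_ofNat_eq_mod, Nat.reduceMod]
    linear_combination this
  have hv : v = ∑ b, v b • Pi.single b (1 : F) := by
    funext j
    simp [Finset.sum_apply, Pi.single_apply]
  conv_lhs => rw [hv, mulVec_sum]
  conv_rhs => rw [hv]
  rw [qf_sum, qf_sum]
  refine congrArg₂ (· + ·) (Finset.sum_congr rfl fun b _ => ?_)
    (Finset.sum_congr rfl fun b _ => Finset.sum_congr rfl fun c hc => ?_)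
  · rw [mulVec_smul, qf_smul, qf_smul, hq]
  · rw [mulVec_smul, mulVec_smul, bf_smul_right, bf_smul_left,
      hb b c (ne_of_lt (Finset.mem_filter.mp hc).2), bf_smul_right, bf_smul_left]

/-- The root elements generate. -/
theorem closure_xe : Subgroup.closure {g : chevG2.group F | ∃ r t, g = xe r t} = ⊤ := by
  rw [eq_top_iff]
  rintro ⟨g, hg⟩ -
  have : chevG2.group F ≤ (Subgroup.closure {g : chevG2.group F | ∃ r t, g = xe r t}).map
      (chevG2.group F).subtype := good_G2.group_le_iff.mpr fun r _ t =>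
    ⟨xe r t, Subgroup.subset_closure ⟨r, t, rfl⟩, rfl⟩
  obtain ⟨x, hx, e⟩ := this hg
  rwa [← show x = ⟨g, hg⟩ from Subtype.ext e]

variable [Finite F]

theorem qf_rho (g : chevG2.group F) (v : Fin 7 → F) :
    qf ((rho F g : Matrix (Fin 7) (Fin 7) F) *ᵥ v) = qf v := by
  have hg : g ∈ Subgroup.closure {g : chevG2.group F | ∃ r t, g = xe r t} := by
    rw [closure_xe]; trivial
  induction hg using Subgroup.closure_induction generalizing v with
  | mem x hx =>
    obtain ⟨r, t, rfl⟩ := hx
    rw [rho_x, coe_xg, qf_xm]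
  | one => simp
  | mul a b _ _ ha hb => rw [map_mul, Units.val_mul, ← mulVec_mulVec, ha, hb]
  | inv a _ ha =>
    have := ha (((rho F a)⁻¹ : GL (Fin 7) F) *ᵥ v)
    rw [mulVec_mulVec, ← Units.val_mul, mul_inv_cancel, Units.val_one, one_mulVec] at this
    rw [map_inv, ← this]

theorem bf_rho (g : chevG2.group F) (v w : Fin 7 → F) :
    bf ((rho F g : Matrix (Fin 7) (Fin 7) F) *ᵥ v) ((rho F g : Matrix (Fin 7) (Fin 7) F) *ᵥ w) =
      bf v w := by
  have h := qf_rho g (v + w)
  rw [mulVec_add, qf_add, qf_add, qf_rho, qf_rho] at h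
  linear_combination h

end CfsgLib.Chev.G2Spec
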